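import Groth.Agent.Lib.Helper18.Tate.WeilDiff
import Groth.Agent.Lib.Helper18.Hasse.Expansion

/-! # The divisor of a differential is canonical (algebraically closed constants) -/

set_option autoImplicit false
set_option linter.style.haveILetI false

namespace Groth.Agent.Lib.Helper18.Tate

open LinearMap HahnSeries LaurentSeries WithZero FunFld LocRes Groth.Agent.Lib.Helper18.FF
  Groth.Agent.Lib.Helper18.Hasse

universe u v w

variable {k : Type u} [Field k] {K : Type v} [Field K] [Algebra k K]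

theorem val_D_uniformizer {F : Type w} [Field F] [Algebra k F] [FiniteDimensional k F]
    {w : Valuation K (WithZero (Multiplicative ℤ))} {Φ : K →ₐ[k] LaurentSeries F}
    (hΦ : IsExpansionAt w Φ) {t : K} (ht : w t = exp (-1 : ℤ)) :
    Valued.v (D F (Φ t)) = 1 := by
  obtain ⟨h1, h2⟩ := exists_lead (k := k) hΦ ht
  have h3 : D F (Φ t) ∈ Fil k F (1 - 1) := D_mem_Fil h1
  have h4 : (D F (Φ t)).coeff 0 ≠ 0 := by
    rw [D_coeff, zero_add, one_smul]
    exact h2
  rw [sub_self, mem_Fil_iff_val, neg_zero, exp_zero] at h3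
  refine le_antisymm h3 (not_lt.mp fun h => h4 ?_)
  have h5 : Valued.v (D F (Φ t)) ≤ exp (-(1 : ℤ)) := (zm0_lt_one_iff _).mp h
  rw [LaurentSeries.valuation_le_iff_coeff_lt_eq_zero] at h5
  exact h5 0 (by norm_num)

variable [IsAlgClosed k]

theorem vDiff_eq_val (hK : IsFunctionField k K) (P : Place k K)
    (Φ : K →ₐ[k] LaurentSeries k) (hΦ : IsExpansionAt P.1 Φ) {t : K}
    (ht : P.1 t = exp (-1 : ℤ)) {Ht : K →ₐ[k] PowerSeries K} (hHt : IsHasseFamily t Ht)
    (u y : K) : vDiff Φ u y = P.1 (u * hasseD Ht 1 y) := by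
  unfold vDiff
  rw [D_expansion_eq hK Φ hHt y, ← mul_assoc, ← map_mul Φ, Valuation.map_mul,
    val_D_uniformizer hΦ ht, mul_one, hΦ.1]

theorem vDiff_ne_zero (hK : IsFunctionField k K) {s : K} {H : K →ₐ[k] PowerSeries K}
    (hH : IsHasseFamily s H) (P : Place k K) (Φ : K →ₐ[k] LaurentSeries k)
    (hΦ : IsExpansionAt P.1 Φ) {u : K} (hu : u ≠ 0) : vDiff Φ u s ≠ 0 := by
  obtain ⟨t, Ht, ht, hHt⟩ := exists_local_hasse hK hH P
  rw [vDiff_eq_val hK P Φ hΦ ht hHt u s]
  exact (Valuation.ne_zero_iff _).mpr (mul_ne_zero hu (hasseD_one_ne_zero hK hH hHt))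

/-- **The divisor of `ds` is canonical.** -/
theorem isCanonical_divDiff (hK : IsFunctionField k K) {s : K} {H : K →ₐ[k] PowerSeries K}
    (hH : IsHasseFamily s H) (Φ : Place k K → (K →ₐ[k] LaurentSeries k))
    (hΦ : ∀ P : Place k K, IsExpansionAt P.1 (Φ P)) :
    IsCanonical k K (divDiff Φ 1 s) :=
  isCanonical_of_ordDiff (fun _ => k) Φ hK hΦ 1 s
    (fun P => vDiff_ne_zero hK hH P (Φ P) (hΦ P) one_ne_zero)
    (finite_support_ordDiff hK hH Φ hΦ)
    (fun _ => ⟨1, by rw [Algebra.trace_self_apply]; exact one_ne_zero⟩) _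
    (fun P => divDiff_one_apply hK hH Φ hΦ P)

/-- `deg [ds] = 2g - 2`. -/
theorem deg_divDiff (hK : IsFunctionField k K) {s : K} {H : K →ₐ[k] PowerSeries K}
    (hH : IsHasseFamily s H) (Φ : Place k K → (K →ₐ[k] LaurentSeries k))
    (hΦ : ∀ P : Place k K, IsExpansionAt P.1 (Φ P)) :
    (divDiff Φ 1 s).deg = 2 * (genus k K : ℤ) - 2 :=
  deg_canonical hK (isCanonical_divDiff hK hH Φ hΦ)

end Groth.Agent.Lib.Helper18.Tate
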