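import Groth.Agent.Lib.Helper18.Tate.FRTrace
import Mathlib.LinearAlgebra.Projection

/-! # Almost-containment of subspaces and the operator classes of Tate -/

set_option autoImplicit false

namespace Groth.Agent.Lib.Helper18.Tate

open LinearMap

universe u v w

variable {k : Type u} [Field k] {V : Type v} [AddCommGroup V] [Module k V]
  {V' : Type w} [AddCommGroup V'] [Module k V']

/-- `X ≲ A`: `X` is contained in `A` plus a finite-dimensional subspace. -/
def Sub (X A : Submodule k V) : Prop :=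
  ∃ W : Submodule k V, FiniteDimensional k W ∧ X ≤ A ⊔ W

theorem Sub.of_le {X A : Submodule k V} (h : X ≤ A) : Sub X A :=
  ⟨⊥, inferInstance, h.trans le_sup_left⟩

theorem Sub.refl (A : Submodule k V) : Sub A A := Sub.of_le le_rfl

theorem Sub.of_fd {X : Submodule k V} (A : Submodule k V) (h : FiniteDimensional k X) : Sub X A :=
  ⟨X, h, le_sup_right⟩

theorem Sub.trans {X Y Z : Submodule k V} (h1 : Sub X Y) (h2 : Sub Y Z) : Sub X Z := by
  obtain ⟨W1, hW1, h1⟩ := h1
  obtain ⟨W2, hW2, h2⟩ := h2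
  haveI := hW1
  haveI := hW2
  refine ⟨W2 ⊔ W1, inferInstance, h1.trans ?_⟩
  rw [← sup_assoc]
  exact sup_le_sup_right h2 W1

theorem Sub.mono_left {X X' A : Submodule k V} (h : X' ≤ X) (h1 : Sub X A) : Sub X' A :=
  (Sub.of_le h).trans h1

theorem Sub.mono_right {X A A' : Submodule k V} (h1 : Sub X A) (h : A ≤ A') : Sub X A' :=
  h1.trans (Sub.of_le h)

theorem Sub.map (T : V →ₗ[k] V') {X A : Submodule k V} (h : Sub X A) :
    Sub (X.map T) (A.map T) := by
  obtain ⟨W, hW, h⟩ := h
  haveI := hW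
  refine ⟨W.map T, inferInstance, ?_⟩
  rw [← Submodule.map_sup]
  exact Submodule.map_mono h

theorem Sub.sup {X Y A : Submodule k V} (h1 : Sub X A) (h2 : Sub Y A) : Sub (X ⊔ Y) A := by
  obtain ⟨W1, hW1, h1⟩ := h1
  obtain ⟨W2, hW2, h2⟩ := h2
  haveI := hW1
  haveI := hW2
  refine ⟨W1 ⊔ W2, inferInstance, sup_le (h1.trans ?_) (h2.trans ?_)⟩
  · exact sup_le_sup_left le_sup_left A
  · exact sup_le_sup_left le_sup_right A

theorem sub_bot_iff {X : Submodule k V} : Sub X ⊥ ↔ FiniteDimensional k X := by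
  constructor
  · rintro ⟨W, hW, h⟩
    haveI := hW
    rw [bot_sup_eq] at h
    exact Submodule.finiteDimensional_of_le h
  · intro h
    exact Sub.of_fd ⊥ h

/-- `A` and `B` are commensurable. -/
def Comm (A B : Submodule k V) : Prop := Sub A B ∧ Sub B A

theorem Comm.symm {A B : Submodule k V} (h : Comm A B) : Comm B A := ⟨h.2, h.1⟩

theorem Comm.refl (A : Submodule k V) : Comm A A := ⟨Sub.refl A, Sub.refl A⟩

section Proj

variable {A : Submodule k V} {π : Module.End k V}

theorem proj_one_sub_apply_mem (hπ : IsProj A π) {x : V} (hx : x ∈ A) : (1 - π) x = 0 := by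
  rw [LinearMap.sub_apply, Module.End.one_apply, hπ.map_id x hx, sub_self]

theorem proj_map_one_sub (hπ : IsProj A π) : A.map (1 - π) = ⊥ := by
  rw [eq_bot_iff]
  rintro _ ⟨x, hx, rfl⟩
  rw [proj_one_sub_apply_mem hπ hx]
  exact Submodule.zero_mem _

theorem proj_mul_self (hπ : IsProj A π) : π * π = π := hπ.isIdempotentElem.eq

theorem proj_one_sub_mul (hπ : IsProj A π) : (1 - π) * π = 0 := by
  rw [sub_mul, one_mul, (proj_mul_self hπ), sub_self]

theorem proj_mul_one_sub (hπ : IsProj A π) : π * (1 - π) = 0 := by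
  rw [mul_sub, mul_one, (proj_mul_self hπ), sub_self]

theorem proj_one_sub (hπ : IsProj A π) : IsProj (LinearMap.ker π) (1 - π) := by
  constructor
  · intro x
    rw [LinearMap.mem_ker, ← Module.End.mul_apply, (proj_mul_one_sub hπ), LinearMap.zero_apply]
  · intro x hx
    rw [LinearMap.sub_apply, Module.End.one_apply, LinearMap.mem_ker.mp hx, sub_zero]

theorem proj_ker_one_sub (hπ : IsProj A π) : LinearMap.ker (1 - π) = A := by
  ext x
  rw [LinearMap.mem_ker, LinearMap.sub_apply, Module.End.one_apply, sub_eq_zero]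
  constructor
  · intro h
    rw [h]; exact hπ.map_mem x
  · intro h
    exact (hπ.map_id x h).symm

theorem proj_range_le (hπ : IsProj A π) : LinearMap.range π ≤ A := by
  rintro _ ⟨x, rfl⟩
  exact hπ.map_mem x

/-- If `X ≲ A` and `X ≲ ker π` then `X` is finite-dimensional. -/
theorem Sub.fd_of_proj (hπ : IsProj A π) {X : Submodule k V} (h1 : Sub X A)
    (h2 : Sub X (LinearMap.ker π)) : FiniteDimensional k X := by
  obtain ⟨W1, hW1, h1⟩ := h1
  obtain ⟨W2, hW2, h2⟩ := h2
  haveI := hW1
  haveI := hW2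
  have hX : X ≤ W2.map π ⊔ W1.map (1 - π) := by
    intro x hx
    have e : x = π x + (1 - π) x := by
      rw [LinearMap.sub_apply, Module.End.one_apply]; abel
    rw [e]
    refine Submodule.add_mem_sup ?_ ?_
    · obtain ⟨a, ha, w, hw, rfl⟩ := Submodule.mem_sup.mp (h2 hx)
      refine ⟨w, hw, ?_⟩
      rw [map_add, LinearMap.mem_ker.mp ha, zero_add]
    · obtain ⟨a, ha, w, hw, rfl⟩ := Submodule.mem_sup.mp (h1 hx)
      refine ⟨w, hw, ?_⟩
      rw [map_add (1 - π), proj_one_sub_apply_mem hπ ha, zero_add]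
  exact Submodule.finiteDimensional_of_le hX

end Proj

/-! ### The operator classes -/

section Classes

variable (A : Submodule k V)

/-- `T A ≲ A`. -/
def E (T : Module.End k V) : Prop := Sub (A.map T) A

/-- `T V ≲ A`. -/
def E1 (T : Module.End k V) : Prop := Sub (LinearMap.range T) A

/-- `T A` is finite-dimensional. -/
def E2 (T : Module.End k V) : Prop := FiniteDimensional k (A.map T)

/-- `T V ≲ A` and `T A ≲ 0`. -/
def E0 (T : Module.End k V) : Prop := E1 A T ∧ E2 A T

variable {A}

theorem E1.toE {T : Module.End k V} (h : E1 A T) : E A T :=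
  Sub.mono_left (LinearMap.map_le_range) h

theorem E2.toE {T : Module.End k V} (h : E2 A T) : E A T := Sub.of_fd A h

theorem E0.toE {T : Module.End k V} (h : E0 A T) : E A T := h.1.toE

theorem E.one : E A (1 : Module.End k V) := by
  unfold E
  have : A.map (1 : Module.End k V) = A := Submodule.map_id A
  rw [this]
  exact Sub.refl A

theorem E.of_stable {T : Module.End k V} (h : ∀ x ∈ A, T x ∈ A) : E A T := by
  refine Sub.of_le ?_
  rintro _ ⟨x, hx, rfl⟩
  exact h x hx

theorem E.mul {S T : Module.End k V} (hS : E A S) (hT : E A T) : E A (S * T) := by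
  unfold E at *
  have : A.map (S * T) = (A.map T).map S := Submodule.map_comp T S A
  rw [this]
  exact (Sub.map S hT).trans hS

theorem E.add {S T : Module.End k V} (hS : E A S) (hT : E A T) : E A (S + T) := by
  unfold E at *
  refine Sub.mono_left ?_ (hS.sup hT)
  rintro _ ⟨x, hx, rfl⟩
  exact Submodule.add_mem_sup ⟨x, hx, rfl⟩ ⟨x, hx, rfl⟩

theorem E.smul {T : Module.End k V} (hT : E A T) (c : k) : E A (c • T) := by
  unfold E at *
  refine Sub.mono_left ?_ hT
  rintro _ ⟨x, hx, rfl⟩
  exact ⟨c • x, Submodule.smul_mem _ c hx, by simp⟩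

theorem E.neg {T : Module.End k V} (hT : E A T) : E A (-T) := by
  have := hT.smul (-1)
  simpa using this

theorem E.sub {S T : Module.End k V} (hS : E A S) (hT : E A T) : E A (S - T) := by
  rw [sub_eq_add_neg]; exact hS.add hT.neg

theorem E1.mul_right {T : Module.End k V} (hT : E1 A T) (S : Module.End k V) : E1 A (T * S) :=
  Sub.mono_left (LinearMap.range_comp_le_range S T) hT

theorem E1.mul_left {T S : Module.End k V} (hT : E1 A T) (hS : E A S) : E1 A (S * T) := by
  unfold E1 at *
  have : LinearMap.range (S * T) = (LinearMap.range T).map S := LinearMap.range_comp T S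
  rw [this]
  exact (Sub.map S hT).trans hS

theorem E1.add {S T : Module.End k V} (hS : E1 A S) (hT : E1 A T) : E1 A (S + T) := by
  unfold E1 at *
  refine Sub.mono_left ?_ (hS.sup hT)
  rintro _ ⟨x, rfl⟩
  exact Submodule.add_mem_sup ⟨x, rfl⟩ ⟨x, rfl⟩

theorem E1.smul {T : Module.End k V} (hT : E1 A T) (c : k) : E1 A (c • T) := by
  unfold E1 at *
  refine Sub.mono_left ?_ hT
  rintro _ ⟨x, rfl⟩
  exact ⟨c • x, by simp⟩

theorem E1.neg {T : Module.End k V} (hT : E1 A T) : E1 A (-T) := by
  have := hT.smul (-1)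
  simpa using this

theorem E1.sub {S T : Module.End k V} (hS : E1 A S) (hT : E1 A T) : E1 A (S - T) := by
  rw [sub_eq_add_neg]; exact hS.add hT.neg

theorem E2.mul_left {T : Module.End k V} (hT : E2 A T) (S : Module.End k V) : E2 A (S * T) := by
  unfold E2 at *
  haveI := hT
  have : A.map (S * T) = (A.map T).map S := Submodule.map_comp T S A
  rw [this]
  infer_instance

theorem E2.mul_right {T S : Module.End k V} (hT : E2 A T) (hS : E A S) : E2 A (T * S) := by
  unfold E2 E at *
  haveI := hT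
  obtain ⟨W, hW, h⟩ := hS
  haveI := hW
  have : A.map (T * S) = (A.map S).map T := Submodule.map_comp S T A
  rw [this]
  refine Submodule.finiteDimensional_of_le (S₂ := A.map T ⊔ W.map T) ?_
  rw [← Submodule.map_sup]
  exact Submodule.map_mono h

theorem E2.add {S T : Module.End k V} (hS : E2 A S) (hT : E2 A T) : E2 A (S + T) := by
  unfold E2 at *
  haveI := hS
  haveI := hT
  refine Submodule.finiteDimensional_of_le (S₂ := A.map S ⊔ A.map T) ?_
  rintro _ ⟨x, hx, rfl⟩
  exact Submodule.add_mem_sup ⟨x, hx, rfl⟩ ⟨x, hx, rfl⟩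

theorem E2.smul {T : Module.End k V} (hT : E2 A T) (c : k) : E2 A (c • T) := by
  unfold E2 at *
  haveI := hT
  refine Submodule.finiteDimensional_of_le (S₂ := A.map T) ?_
  rintro _ ⟨x, hx, rfl⟩
  exact ⟨c • x, Submodule.smul_mem _ c hx, by simp⟩

theorem E2.neg {T : Module.End k V} (hT : E2 A T) : E2 A (-T) := by
  have := hT.smul (-1)
  simpa using this

theorem E2.sub {S T : Module.End k V} (hS : E2 A S) (hT : E2 A T) : E2 A (S - T) := by
  rw [sub_eq_add_neg]; exact hS.add hT.neg

theorem E0.add {S T : Module.End k V} (hS : E0 A S) (hT : E0 A T) : E0 A (S + T) :=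
  ⟨hS.1.add hT.1, hS.2.add hT.2⟩

theorem E0.smul {T : Module.End k V} (hT : E0 A T) (c : k) : E0 A (c • T) :=
  ⟨hT.1.smul c, hT.2.smul c⟩

theorem E0.neg {T : Module.End k V} (hT : E0 A T) : E0 A (-T) := ⟨hT.1.neg, hT.2.neg⟩

theorem E0.sub {S T : Module.End k V} (hS : E0 A S) (hT : E0 A T) : E0 A (S - T) :=
  ⟨hS.1.sub hT.1, hS.2.sub hT.2⟩

theorem E0.mul_left {T S : Module.End k V} (hT : E0 A T) (hS : E A S) : E0 A (S * T) :=
  ⟨hT.1.mul_left hS, hT.2.mul_left S⟩

theorem E0.mul_right {T S : Module.End k V} (hT : E0 A T) (hS : E A S) : E0 A (T * S) :=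
  ⟨hT.1.mul_right S, hT.2.mul_right hS⟩

/-- The product of two elements of `E0` has finite rank. -/
theorem E0.isFR_mul {S T : Module.End k V} (hS : E2 A S) (hT : E1 A T) : IsFR (S * T) := by
  unfold E2 E1 at *
  haveI := hS
  obtain ⟨W, hW, h⟩ := hT
  haveI := hW
  refine IsFR.of_range_le (U := A.map S ⊔ W.map S) inferInstance ?_
  have : LinearMap.range (S * T) = (LinearMap.range T).map S := LinearMap.range_comp T S
  rw [this, ← Submodule.map_sup]
  exact Submodule.map_mono h

/-- The classes only depend on the commensurability class of `A`. -/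
theorem E.congr {B : Submodule k V} (h : Comm A B) {T : Module.End k V} (hT : E A T) : E B T := by
  unfold E at *
  exact ((Sub.map T h.2).trans hT).trans h.1

theorem E1.congr {B : Submodule k V} (h : Comm A B) {T : Module.End k V} (hT : E1 A T) :
    E1 B T := by
  unfold E1 at *
  exact hT.trans h.1

theorem E2.congr {B : Submodule k V} (h : Comm A B) {T : Module.End k V} (hT : E2 A T) :
    E2 B T := by
  unfold E2 at *
  haveI := hT
  obtain ⟨W, hW, hBW⟩ := h.2
  haveI := hW
  refine Submodule.finiteDimensional_of_le (S₂ := A.map T ⊔ W.map T) ?_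
  rw [← Submodule.map_sup]
  exact Submodule.map_mono hBW

theorem E0.congr {B : Submodule k V} (h : Comm A B) {T : Module.End k V} (hT : E0 A T) :
    E0 B T := ⟨hT.1.congr h, hT.2.congr h⟩

end Classes

section ProjClasses

variable {A : Submodule k V} {π : Module.End k V}

theorem proj_E1 (hπ : IsProj A π) : E1 A π := Sub.of_le (proj_range_le hπ)

theorem proj_E2_one_sub (hπ : IsProj A π) : E2 A (1 - π) := by
  unfold Tate.E2
  rw [proj_map_one_sub hπ]
  infer_instance

theorem proj_E (hπ : IsProj A π) : E A π := (proj_E1 hπ).toE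

theorem E2.isFR_mul_proj (hπ : IsProj A π) {T : Module.End k V} (hT : E2 A T) :
    IsFR (T * π) := by
  unfold E2 at hT
  refine IsFR.of_range_le hT ?_
  rintro _ ⟨x, rfl⟩
  exact ⟨π x, hπ.map_mem x, rfl⟩

theorem E1.isFR_one_sub_mul (hπ : IsProj A π) {T : Module.End k V} (hT : E1 A T) :
    IsFR ((1 - π) * T) := by
  obtain ⟨W, hW, h⟩ := hT
  haveI := hW
  refine IsFR.of_range_le (U := W.map (1 - π)) inferInstance ?_
  rintro _ ⟨x, rfl⟩
  obtain ⟨a, ha, w, hw, e⟩ := Submodule.mem_sup.mp (h (LinearMap.mem_range_self T x))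
  refine ⟨w, hw, ?_⟩
  rw [Module.End.mul_apply, ← e, map_add (1 - π), proj_one_sub_apply_mem hπ ha, zero_add]

/-- `[g, π] ∈ E0` for `g ∈ E`. -/
theorem E.comm_proj (hπ : IsProj A π) {g : Module.End k V} (hg : E A g) :
    E0 A (g * π - π * g) := by
  constructor
  · exact ((proj_E1 hπ).mul_left hg).sub ((proj_E1 hπ).mul_right g)
  · -- on `A`: `g a - π g a = (1 - π) g a`
    have h1 : E2 A ((1 - π) * g) := (proj_E2_one_sub hπ).mul_right hg
    unfold E2 at *
    haveI := h1
    refine Submodule.finiteDimensional_of_le (S₂ := A.map ((1 - π) * g)) ?_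
    rintro _ ⟨x, hx, rfl⟩
    refine ⟨x, hx, ?_⟩
    simp only [LinearMap.sub_apply, Module.End.mul_apply, Module.End.one_apply, hπ.map_id x hx]

end ProjClasses

end Groth.Agent.Lib.Helper18.Tate
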