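import Groth.Agent.Lib.Helper18.Tate.Global

/-! # Comparison of residues along a dense embedding, and finite products -/

set_option autoImplicit false

namespace Groth.Agent.Lib.Helper18.Tate

open LinearMap

universe u v w

variable {k : Type u} [Field k] {V : Type v} [AddCommGroup V] [Module k V]
  {V' : Type w} [AddCommGroup V'] [Module k V']

/-- Transport of the trace of a finite-rank operator along an injective intertwiner whose range
contains the range of the operator. -/
theorem frTrace_transport (ι : V →ₗ[k] V') (hι : Function.Injective ι) {T : Module.End k V}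
    {T' : Module.End k V'} (hT' : IsFR T') (hr : LinearMap.range T' ≤ LinearMap.range ι)
    (hT : ∀ x, T' (ι x) = ι (T x)) : frTrace T' = frTrace T := by
  set e := LinearEquiv.ofInjective ι hι
  set S : V' →ₗ[k] V := e.symm.toLinearMap ∘ₗ
    (T'.codRestrict (LinearMap.range ι) (fun x => hr (LinearMap.mem_range_self T' x))) with hS
  have hιS : ∀ y, ι (S y) = T' y := by
    intro y
    have : (e (S y) : V') = T' y := by
      simp only [hS, LinearMap.comp_apply, LinearEquiv.coe_coe, LinearEquiv.apply_symm_apply,
        LinearMap.codRestrict_apply]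
    rw [← this]
    rfl
  have e1 : T' = ι ∘ₗ S := by
    ext y
    exact (hιS y).symm
  have e2 : T = S ∘ₗ ι := by
    ext x
    apply hι
    rw [LinearMap.comp_apply, hιS, hT]
  have hSfr : IsFR S := by
    unfold IsFR at hT' ⊢
    haveI := hT'
    have hle : LinearMap.range S ≤ (LinearMap.range T').comap ι := by
      rintro _ ⟨y, rfl⟩
      rw [Submodule.mem_comap, hιS]
      exact LinearMap.mem_range_self T' y
    haveI : FiniteDimensional k ((LinearMap.range T').comap ι) := by
      refine FiniteDimensional.of_injective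
        (ι.restrict (p := (LinearMap.range T').comap ι) (q := LinearMap.range T') (fun x hx => hx)) ?_
      intro x y hxy
      have := congrArg (Subtype.val) hxy
      exact Subtype.ext (hι this)
    exact Submodule.finiteDimensional_of_le hle
  rw [e1, e2]
  exact (frTrace_comp_comm S ι hSfr).symm

/-- Comparison of residues along an injective map `ι : V → V'` with `ι⁻¹ A' = A` and
`ι V + A' = V'`. -/
theorem res_comparison (ι : V →ₗ[k] V') (hι : Function.Injective ι)
    {A : Submodule k V} {A' : Submodule k V'} (hA : A'.comap ι = A)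
    (hsup : LinearMap.range ι ⊔ A' = ⊤)
    {π : Module.End k V} (hπ : IsProj A π) {π' : Module.End k V'} (hπ' : IsProj A' π')
    {f g : Module.End k V} {f' g' : Module.End k V'} (hf : E A f) (hg : E A g)
    (hfg : Commute f g) (hf' : E A' f') (hg' : E A' g') (hfg' : Commute f' g')
    (hfι : ∀ x, f' (ι x) = ι (f x)) (hgι : ∀ x, g' (ι x) = ι (g x)) :
    res π' f' g' = res π f g := by
  set C := LinearMap.ker π with hC
  have hAC : IsCompl A C := hπ.isCompl
  set C' := C.map ι with hC'
  have hιA : ∀ x, x ∈ A → ι x ∈ A' := fun x hx => by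
    rw [← hA] at hx; exact hx
  have hcompl' : IsCompl A' C' := by
    constructor
    · rw [Submodule.disjoint_def]
      rintro _ hy ⟨c, hc, rfl⟩
      have hcA : c ∈ A := by rw [← hA]; exact hy
      have : c = 0 := (Submodule.disjoint_def.mp hAC.disjoint) c hcA hc
      rw [this, map_zero]
    · rw [codisjoint_iff, eq_top_iff, ← hsup]
      refine sup_le ?_ le_sup_left
      rintro _ ⟨v, rfl⟩
      have e : ι v = ι (π v) + ι ((1 - π) v) := by
        rw [← map_add]; congr 1
        rw [LinearMap.sub_apply, Module.End.one_apply]; abel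
      rw [e]
      refine Submodule.add_mem_sup (hιA _ (hπ.map_mem v)) ⟨_, ?_, rfl⟩
      exact (proj_one_sub hπ).map_mem v
  set π₀ := A'.projection C' hcompl' with hπ₀def
  have hπ₀ : IsProj A' π₀ := ⟨fun x => Submodule.projection_apply_mem hcompl' x,
    fun x hx => Submodule.projection_apply_of_mem_left hcompl' hx⟩
  have hker : LinearMap.ker π₀ = C' := Submodule.ker_projection hcompl'
  rw [← res_indep hπ' hπ₀ (Comm.refl A') hf' hg' hfg']
  have hπι : ∀ v, π₀ (ι v) = ι (π v) := by
    intro v
    have e : ι v = ι (π v) + ι ((1 - π) v) := by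
      rw [← map_add]; congr 1
      rw [LinearMap.sub_apply, Module.End.one_apply]; abel
    have h1 : π₀ (ι (π v)) = ι (π v) := hπ₀.map_id _ (hιA _ (hπ.map_mem v))
    have h2 : π₀ (ι ((1 - π) v)) = 0 := by
      have : ι ((1 - π) v) ∈ LinearMap.ker π₀ := by
        rw [hker]; exact ⟨_, (proj_one_sub hπ).map_mem v, rfl⟩
      exact this
    conv_lhs => rw [e, map_add, h1, h2, add_zero]
  have h1mem : ∀ y, (1 - π₀) y ∈ LinearMap.range ι := by
    intro y
    have : (1 - π₀) y ∈ C' := by
      have := (proj_one_sub hπ₀).map_mem y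
      rwa [hker] at this
    obtain ⟨c, -, hc⟩ := this
    exact ⟨c, hc⟩
  set θ := π * f * g - g * (π * f) with hθ
  set θ' := π₀ * f' * g' - g' * (π₀ * f') with hθ'
  have h0 : E0 A θ := res_E0 hπ hf hg hfg
  have h0' : E0 A' θ' := res_E0 hπ₀ hf' hg' hfg'
  have hθι : ∀ x, θ' (ι x) = ι (θ x) := by
    intro x
    simp only [hθ, hθ', Module.End.mul_apply, LinearMap.sub_apply, hfι, hgι, hπι, map_sub]
  have hcomm' : ∀ x, f' (g' x) = g' (f' x) := fun x => by
    have := congrArg (fun T : Module.End k V' => T x) hfg'.eq
    simpa using this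
  -- first term
  have t1 : frTrace (θ' * π₀) = frTrace (θ * π) := by
    refine frTrace_transport ι hι (E2.isFR_mul_proj hπ₀ h0'.2) ?_ ?_
    · rintro _ ⟨x, rfl⟩
      set a := π₀ x with ha
      have haA : a ∈ A' := hπ₀.map_mem x
      set u := f' a with hu
      obtain ⟨c, hc⟩ := h1mem u
      have hu' : u = π₀ u + ι c := by
        rw [hc, LinearMap.sub_apply, Module.End.one_apply]; abel
      obtain ⟨c₂, hc₂⟩ := h1mem (g' (π₀ u))
      have : (θ' * π₀) x = ι (π (g c)) - ι c₂ := by
        have e1 : (θ' * π₀) x = π₀ (g' u) - g' (π₀ u) := by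
          simp only [hθ', Module.End.mul_apply, LinearMap.sub_apply, ← ha, ← hu, hcomm']
        have e2 : π₀ (g' u) = π₀ (g' (π₀ u)) + ι (π (g c)) := by
          conv_lhs => rw [hu', map_add, map_add, hgι, hπι]
        rw [e1, e2, hc₂, LinearMap.sub_apply, Module.End.one_apply]
        abel
      rw [this, ← map_sub]
      exact LinearMap.mem_range_self ι _
    · intro x
      simp only [Module.End.mul_apply, hπι, hθι]
  have t2 : frTrace ((1 - π₀) * θ') = frTrace ((1 - π) * θ) := by
    refine frTrace_transport ι hι (E1.isFR_one_sub_mul hπ₀ h0'.1) ?_ ?_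
    · rintro _ ⟨x, rfl⟩
      exact h1mem _
    · intro x
      simp only [Module.End.mul_apply, LinearMap.sub_apply, Module.End.one_apply, hθι, hπι, map_sub]
  unfold res Tr
  rw [← hθ, ← hθ', t1, t2]

end Groth.Agent.Lib.Helper18.Tate
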