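import Groth.Agent.Lib.Helper18.Tate.Local
import Mathlib.RingTheory.Valuation.Extension

/-! # Integral bases for finite extensions of complete discretely valued fields with coefficient
fields, read through Laurent expansions -/

set_option autoImplicit false
set_option linter.style.haveILetI false

namespace Groth.Agent.Lib.Helper18.Tate.Complete

open HahnSeries LaurentSeries WithZero Groth.Agent.Lib.Helper18.Tate

universe u v

section Basic

variable {K L : Type u} {F E : Type v} [Field K] [Field L] [Field F] [Field E] [Algebra K F]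
  [Algebra F E] [Algebra K E] [IsScalarTower K F E] [Algebra K L] [Algebra L E]
  [IsScalarTower K L E]
  {v : Valuation F (WithZero (Multiplicative ℤ))} {w : Valuation E (WithZero (Multiplicative ℤ))}
  {φ : F →ₐ[K] LaurentSeries K} {ψ : E →ₐ[L] LaurentSeries L}

omit [Algebra K F] [Algebra F E] [Algebra K E] [IsScalarTower K F E] [Algebra K L]
  [IsScalarTower K L E] in
theorem psi_algebraMap_L (l : L) : ψ (algebraMap L E l) = HahnSeries.C l := by
  rw [LocRes.map_algebraMap]
  rfl

omit [Algebra K F] [Algebra F E] [IsScalarTower K F E] in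
theorem psi_algebraMap_K (a : K) : ψ (algebraMap K E a) = HahnSeries.C (algebraMap K L a) := by
  rw [IsScalarTower.algebraMap_apply K L E, psi_algebraMap_L]

theorem val_C_eq_one {R : Type*} [Field R] {l : R} (hl : l ≠ 0) :
    Valued.v (HahnSeries.C l : LaurentSeries R) = 1 := by
  refine le_antisymm (val_C_le_one l) ?_
  have h1 : (HahnSeries.C l : LaurentSeries R) * HahnSeries.C l⁻¹ = 1 := by
    rw [← map_mul, mul_inv_cancel₀ hl, map_one]
  have h2 := congrArg (Valued.v : LaurentSeries R → WithZero (Multiplicative ℤ)) h1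
  rw [map_mul, map_one] at h2
  calc (1 : WithZero (Multiplicative ℤ)) = Valued.v (HahnSeries.C l : LaurentSeries R) *
        Valued.v (HahnSeries.C l⁻¹ : LaurentSeries R) := h2.symm
    _ ≤ Valued.v (HahnSeries.C l : LaurentSeries R) * 1 :=
        mul_le_mul' le_rfl (val_C_le_one l⁻¹)
    _ = _ := mul_one _

omit [Algebra K F] [Algebra F E] [Algebra K E] [IsScalarTower K F E] [Algebra K L]
  [IsScalarTower K L E] in
theorem val_algebraMap_L (hψ : LocRes.IsExpansionAt w ψ) {l : L} (hl : l ≠ 0) :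
    w (algebraMap L E l) = 1 := by
  rw [← hψ.1, psi_algebraMap_L]
  exact val_C_eq_one hl

omit [Algebra K F] [Algebra F E] [Algebra K E] [IsScalarTower K F E] [Algebra K L]
  [IsScalarTower K L E] in
theorem val_algebraMap_L_le (hψ : LocRes.IsExpansionAt w ψ) (l : L) :
    w (algebraMap L E l) ≤ 1 := by
  rw [← hψ.1, psi_algebraMap_L]
  exact val_C_le_one l

omit [Algebra K F] [Algebra F E] [Algebra K E] [IsScalarTower K F E] [Algebra K L]
  [IsScalarTower K L E] in
/-- An integral element with vanishing residue has valuation at most `exp (-1)`. -/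
theorem val_le_of_coeff_zero (hψ : LocRes.IsExpansionAt w ψ) {z : E} (hz : w z ≤ 1)
    (h0 : (ψ z).coeff 0 = 0) : w z ≤ exp (-1 : ℤ) := by
  have h1 : ψ z ∈ Fil L L 0 := by
    rw [mem_Fil_phi_iff hψ]
    simpa using hz
  have h2 : ψ z ∈ Fil L L 1 := by
    intro n hn
    have hn' : n < 0 ∨ n = 0 := by omega
    rcases hn' with h | h
    · exact h1 n h
    · rw [h, h0]
  rw [mem_Fil_phi_iff hψ] at h2
  exact h2

/-- The ramification index of `w` over `v`. -/
theorem exists_ramIdx [v.HasExtension w] {t : F} (ht : v t = exp (-1 : ℤ)) :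
    ∃ e : ℕ, 0 < e ∧ ∀ c : F, w (algebraMap F E c) = v c ^ e := by
  have ht0 : t ≠ 0 := by
    rintro rfl
    rw [map_zero] at ht
    exact exp_ne_zero ht.symm
  have hlt : w (algebraMap F E t) < 1 := by
    rw [Valuation.HasExtension.val_map_lt_one_iff v w, ht, ← exp_zero, exp_lt_exp]
    norm_num
  have hne : w (algebraMap F E t) ≠ 0 := by
    rw [Valuation.ne_zero_iff]
    exact (map_ne_zero_iff _ (algebraMap F E).injective).2 ht0
  set m : ℤ := log (w (algebraMap F E t)) with hm
  have hwm : w (algebraMap F E t) = exp m := (exp_log hne).symm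
  have hmneg : m < 0 := by
    rw [hwm, ← exp_zero, exp_lt_exp] at hlt
    exact hlt
  refine ⟨(-m).toNat, by omega, fun c => ?_⟩
  have hme : ((-m).toNat : ℤ) = -m := Int.toNat_of_nonneg (by omega)
  rcases eq_or_ne c 0 with rfl | hc
  · rw [map_zero, map_zero, map_zero, zero_pow (by omega)]
  · have hvc : v c ≠ 0 := (Valuation.ne_zero_iff _).2 hc
    set n : ℤ := log (v c) with hn
    have hvn : v c = exp n := (exp_log hvc).symm
    set u : F := c * t ^ n with hu
    have hvu : v u = 1 := by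
      rw [hu, map_mul, map_zpow₀, ht, hvn, ← exp_zsmul, ← exp_add]
      simp
    have hwu : w (algebraMap F E u) = 1 :=
      (Valuation.HasExtension.val_map_eq_one_iff v w u).2 hvu
    rw [hu, map_mul, map_mul, map_zpow₀, map_zpow₀, hwm, ← exp_zsmul] at hwu
    have h3 : w (algebraMap F E c) = exp (-(n • m)) := by
      have h4 : w (algebraMap F E c) = w (algebraMap F E c) * exp (n • m) * exp (-(n • m)) := by
        rw [mul_assoc, ← exp_add, add_neg_cancel, exp_zero, mul_one]
      rw [h4, hwu, one_mul]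
    rw [h3, hvn, ← exp_nsmul]
    congr 1
    rw [smul_eq_mul, nsmul_eq_mul, hme]
    ring

omit [Algebra K F] [Algebra F E] [Algebra K E] [IsScalarTower K F E] [Algebra K L]
  [IsScalarTower K L E] in
/-- Approximation of an integral element by a constant, modulo the maximal ideal. -/
theorem exists_sub_algebraMap_le (hψ : LocRes.IsExpansionAt w ψ) {u : E} (hu : w u ≤ 1) :
    ∃ l : L, w (u - algebraMap L E l) ≤ exp (-1 : ℤ) := by
  refine ⟨(ψ u).coeff 0, val_le_of_coeff_zero hψ ?_ ?_⟩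
  · exact (Valuation.map_sub w _ _).trans (max_le hu (val_algebraMap_L_le hψ _))
  · rw [map_sub, psi_algebraMap_L, HahnSeries.coeff_sub, HahnSeries.C_apply,
      HahnSeries.coeff_single_same, sub_self]

omit [Algebra K F] [Algebra F E] [Algebra K E] [IsScalarTower K F E] [Algebra K L]
  [IsScalarTower K L E] in
theorem val_sum_le_one (hψ : LocRes.IsExpansionAt w ψ) {ϖ : E} (hϖ : w ϖ ≤ 1) (m : ℕ)
    (r : ℕ → L) : w (∑ j ∈ Finset.range m, algebraMap L E (r j) * ϖ ^ j) ≤ 1 := by
  refine Valuation.map_sum_le _ fun j _ => ?_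
  rw [map_mul, map_pow]
  exact mul_le_one' (val_algebraMap_L_le hψ _) (pow_le_one' hϖ j)

omit [Algebra K F] [Algebra F E] [Algebra K E] [IsScalarTower K F E] [Algebra K L]
  [IsScalarTower K L E] in
/-- `π`-adic digits of an integral element. -/
theorem exists_digits (hψ : LocRes.IsExpansionAt w ψ) {ϖ : E} (hϖ : w ϖ = exp (-1 : ℤ)) (m : ℕ) :
    ∀ z : E, w z ≤ 1 → ∃ r : ℕ → L,
      w (z - ∑ j ∈ Finset.range m, algebraMap L E (r j) * ϖ ^ j) ≤ exp (-(m : ℤ)) := by
  have hϖ0 : ϖ ≠ 0 := by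
    rintro rfl
    rw [map_zero] at hϖ
    exact exp_ne_zero hϖ.symm
  induction m with
  | zero =>
    intro z hz
    exact ⟨fun _ => 0, by simpa using hz⟩
  | succ m ih =>
    intro z hz
    obtain ⟨l₀, hl₀⟩ := exists_sub_algebraMap_le hψ hz
    set z₁ : E := (z - algebraMap L E l₀) * ϖ⁻¹ with hz₁
    have hz₁' : w z₁ ≤ 1 := by
      rw [hz₁, map_mul, map_inv₀, hϖ]
      calc w (z - algebraMap L E l₀) * (exp (-1 : ℤ))⁻¹ ≤ exp (-1 : ℤ) * (exp (-1 : ℤ))⁻¹ :=
            mul_le_mul' hl₀ le_rfl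
        _ = 1 := mul_inv_cancel₀ exp_ne_zero
    obtain ⟨r₁, hr₁⟩ := ih z₁ hz₁'
    refine ⟨fun j => Nat.casesOn j l₀ r₁, ?_⟩
    rw [Finset.sum_range_succ']
    have e1 : (∑ j ∈ Finset.range m, algebraMap L E
        ((fun j : ℕ => (Nat.casesOn j l₀ r₁ : L)) (j + 1)) * ϖ ^ (j + 1)) =
        ϖ * ∑ j ∈ Finset.range m, algebraMap L E (r₁ j) * ϖ ^ j := by
      rw [Finset.mul_sum]
      refine Finset.sum_congr rfl fun j _ => ?_
      show algebraMap L E (r₁ j) * ϖ ^ (j + 1) = _
      rw [pow_succ]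
      ring
    rw [e1]
    have e2 : z - (ϖ * ∑ j ∈ Finset.range m, algebraMap L E (r₁ j) * ϖ ^ j +
        algebraMap L E ((fun j : ℕ => (Nat.casesOn j l₀ r₁ : L)) 0) * ϖ ^ 0) =
        ϖ * (z₁ - ∑ j ∈ Finset.range m, algebraMap L E (r₁ j) * ϖ ^ j) := by
      show z - (ϖ * ∑ j ∈ Finset.range m, algebraMap L E (r₁ j) * ϖ ^ j +
        algebraMap L E l₀ * ϖ ^ 0) = _
      rw [hz₁, pow_zero, mul_one, mul_sub, mul_comm ϖ ((z - algebraMap L E l₀) * ϖ⁻¹), mul_assoc,
        inv_mul_cancel₀ hϖ0, mul_one]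
      ring
    rw [e2, map_mul, hϖ]
    calc exp (-1 : ℤ) * w (z₁ - ∑ j ∈ Finset.range m, algebraMap L E (r₁ j) * ϖ ^ j)
        ≤ exp (-1 : ℤ) * exp (-(m : ℤ)) := mul_le_mul' le_rfl hr₁
      _ = exp (-((m + 1 : ℕ) : ℤ)) := by
        rw [← exp_add]
        congr 1
        push_cast
        ring

omit [Algebra K F] [Algebra F E] [Algebra K E] [IsScalarTower K F E] [Algebra K L]
  [IsScalarTower K L E] in
/-- Uniqueness of `π`-adic digits. -/
theorem digits_eq_zero (hψ : LocRes.IsExpansionAt w ψ) {ϖ : E} (hϖ : w ϖ = exp (-1 : ℤ)) (m : ℕ) :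
    ∀ r : ℕ → L, w (∑ j ∈ Finset.range m, algebraMap L E (r j) * ϖ ^ j) ≤ exp (-(m : ℤ)) →
      ∀ j < m, r j = 0 := by
  have hϖ0 : ϖ ≠ 0 := by
    rintro rfl
    rw [map_zero] at hϖ
    exact exp_ne_zero hϖ.symm
  have hϖ1 : w ϖ ≤ 1 := by
    rw [hϖ, ← exp_zero, exp_le_exp]
    norm_num
  induction m with
  | zero => intro r _ j hj; omega
  | succ m ih =>
    intro r hr
    rw [Finset.sum_range_succ'] at hr
    have e1 : (∑ j ∈ Finset.range m, algebraMap L E (r (j + 1)) * ϖ ^ (j + 1)) =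
        ϖ * ∑ j ∈ Finset.range m, algebraMap L E (r (j + 1)) * ϖ ^ j := by
      rw [Finset.mul_sum]
      refine Finset.sum_congr rfl fun j _ => ?_
      rw [pow_succ]
      ring
    rw [e1, pow_zero, mul_one] at hr
    set S : E := ∑ j ∈ Finset.range m, algebraMap L E (r (j + 1)) * ϖ ^ j with hS
    have hS1 : w S ≤ 1 := val_sum_le_one hψ hϖ1 m fun j => r (j + 1)
    have hr0 : r 0 = 0 := by
      by_contra h0
      have h1 : w (algebraMap L E (r 0)) = 1 := val_algebraMap_L hψ h0
      have h2 : algebraMap L E (r 0) = (ϖ * S + algebraMap L E (r 0)) - ϖ * S := by ring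
      have h3 : w (algebraMap L E (r 0)) ≤ exp (-1 : ℤ) := by
        rw [h2]
        refine (Valuation.map_sub w _ _).trans (max_le (hr.trans ?_) ?_)
        · rw [exp_le_exp]
          push_cast
          omega
        · rw [map_mul, hϖ]
          calc exp (-1 : ℤ) * w S ≤ exp (-1 : ℤ) * 1 := mul_le_mul' le_rfl hS1
            _ = _ := mul_one _
      rw [h1, ← exp_zero, exp_le_exp] at h3
      omega
    rw [hr0, map_zero, add_zero, map_mul, hϖ] at hr
    have hS2 : w S ≤ exp (-(m : ℤ)) := by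
      have h4 : w S = (exp (-1 : ℤ))⁻¹ * (exp (-1 : ℤ) * w S) := by
        rw [← mul_assoc, inv_mul_cancel₀ exp_ne_zero, one_mul]
      rw [h4]
      calc (exp (-1 : ℤ))⁻¹ * (exp (-1 : ℤ) * w S)
          ≤ (exp (-1 : ℤ))⁻¹ * exp (-((m + 1 : ℕ) : ℤ)) := mul_le_mul' le_rfl hr
        _ = exp (-(m : ℤ)) := by
          rw [← exp_neg, ← exp_add]
          congr 1
          push_cast
          ring
    have ih' := ih (fun j => r (j + 1)) hS2
    intro j hj
    rcases j with _ | j
    · exact hr0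
    · exact ih' j (by omega)

end Basic

section Base

variable {K : Type u} {F : Type v} [Field K] [Field F] [Algebra K F]
  {v : Valuation F (WithZero (Multiplicative ℤ))} {φ : F →ₐ[K] LaurentSeries K}

theorem val_t (hφ : LocRes.IsExpansionAt v φ) {t : F}
    (ht : φ t = HahnSeries.single 1 1) : v t = exp (-1 : ℤ) := by
  have h1 : φ t ∈ Fil K K 1 := by rw [ht]; exact single_mem_Fil 1 1
  have h2 : v t ≤ exp (-1 : ℤ) := (mem_Fil_phi_iff hφ t 1).1 h1
  refine le_antisymm h2 ?_
  by_contra hlt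
  rw [not_le] at hlt
  have ht0 : t ≠ 0 := by
    rintro rfl
    rw [map_zero] at ht
    have := congrArg (fun f : LaurentSeries K => f.coeff 1) ht
    simp at this
  have hne : v t ≠ 0 := (Valuation.ne_zero_iff _).2 ht0
  have hexp : v t = exp (log (v t)) := (exp_log hne).symm
  rw [hexp, exp_lt_exp] at hlt
  have h3 : v t ≤ exp (-(2 : ℤ)) := by
    rw [hexp, exp_le_exp]
    omega
  have h4 : φ t ∈ Fil K K 2 := (mem_Fil_phi_iff hφ t 2).2 h3
  have h5 := h4 1 (by norm_num)
  rw [ht, HahnSeries.coeff_single_same] at h5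
  exact one_ne_zero h5

/-- An element of the valuation ring is its residue plus `t` times an element of the valuation
ring. -/
theorem exists_decomp (hφ : LocRes.IsExpansionAt v φ) {t : F}
    (ht : φ t = HahnSeries.single 1 1) {c : F} (hc : v c ≤ 1) :
    ∃ c' : F, v c' ≤ 1 ∧ c = algebraMap K F ((φ c).coeff 0) + t * c' := by
  have hvt := val_t hφ ht
  have ht0 : t ≠ 0 := by
    rintro rfl
    rw [map_zero] at hvt
    exact exp_ne_zero hvt.symm
  set a : K := (φ c).coeff 0 with ha
  have h0 : φ c ∈ Fil K K 0 := (mem_Fil_phi_iff hφ c 0).2 (by simpa using hc)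
  have h1 : φ (c - algebraMap K F a) ∈ Fil K K 1 := by
    intro n hn
    rw [map_sub, LocRes.map_algebraMap, HahnSeries.coeff_sub, HahnSeries.C_apply]
    have hn' : n < 0 ∨ n = 0 := by omega
    rcases hn' with h | h
    · rw [h0 n h, HahnSeries.coeff_single_of_ne (ne_of_lt h), sub_zero]
    · rw [h, HahnSeries.coeff_single_same]
      exact sub_self _
  have h2 : v (c - algebraMap K F a) ≤ exp (-1 : ℤ) := (mem_Fil_phi_iff hφ _ 1).1 h1
  refine ⟨t⁻¹ * (c - algebraMap K F a), ?_, ?_⟩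
  · rw [map_mul, map_inv₀, hvt]
    calc (exp (-1 : ℤ))⁻¹ * v (c - algebraMap K F a) ≤ (exp (-1 : ℤ))⁻¹ * exp (-1 : ℤ) :=
          mul_le_mul' le_rfl h2
      _ = 1 := inv_mul_cancel₀ exp_ne_zero
  · rw [← mul_assoc, mul_inv_cancel₀ ht0, one_mul]
    ring

theorem val_of_powerSeries (hφ : LocRes.IsExpansionAt v φ) {c : F} {p : PowerSeries K}
    (hc : φ c = HahnSeries.ofPowerSeries ℤ K p) : v c ≤ 1 := by
  have h0 : φ c ∈ Fil K K 0 := by
    intro n hn
    rw [hc]
    have := PowerSeries.coeff_coe (R := K) (f := p) n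
    rw [if_pos hn] at this
    exact this
  simpa using (mem_Fil_phi_iff hφ c 0).1 h0

/-- Completeness: a power series in `t` with coefficients in `K` converges in `F`. -/
theorem exists_limit (hφ : LocRes.IsExpansionAt v φ) (hφs : Function.Surjective φ) {t : F}
    (ht : φ t = HahnSeries.single 1 1) (a : ℕ → K) :
    ∃ c : F, v c ≤ 1 ∧ ∀ N : ℕ,
      v (c - ∑ l ∈ Finset.range N, algebraMap K F (a l) * t ^ l) ≤ exp (-(N : ℤ)) := by
  have hvt := val_t hφ ht
  choose c hc using fun N : ℕ =>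
    hφs (HahnSeries.ofPowerSeries ℤ K (PowerSeries.mk fun l => a (l + N)))
  have hc1 : ∀ N, v (c N) ≤ 1 := fun N => val_of_powerSeries hφ (hc N)
  have hrec : ∀ N, c N = algebraMap K F (a N) + t * c (N + 1) := by
    intro N
    apply φ.toRingHom.injective
    show φ (c N) = φ (algebraMap K F (a N) + t * c (N + 1))
    rw [map_add, map_mul, LocRes.map_algebraMap, hc N, hc (N + 1), ht,
      ← HahnSeries.ofPowerSeries_X, ← HahnSeries.ofPowerSeries_C, ← map_mul, ← map_add]
    congr 1
    ext n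
    rcases n with _ | n
    · simp
    · rw [map_add, PowerSeries.coeff_mk, PowerSeries.coeff_succ_X_mul, PowerSeries.coeff_mk,
        PowerSeries.coeff_C]
      simp only [Algebra.algebraMap_self, RingHom.id_apply]
      rw [if_neg (Nat.succ_ne_zero n), zero_add]
      congr 1
      omega
  have hsum : ∀ N, c 0 = ∑ l ∈ Finset.range N, algebraMap K F (a l) * t ^ l + t ^ N * c N := by
    intro N
    induction N with
    | zero => simp
    | succ N ih =>
      rw [Finset.sum_range_succ, pow_succ]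
      conv_lhs => rw [ih, hrec N]
      ring
  refine ⟨c 0, hc1 0, fun N => ?_⟩
  have : c 0 - ∑ l ∈ Finset.range N, algebraMap K F (a l) * t ^ l = t ^ N * c N := by
    conv_lhs => rw [hsum N]
    ring
  rw [this, map_mul, map_pow, hvt, ← exp_nsmul]
  calc exp (N • (-1 : ℤ)) * v (c N) ≤ exp (N • (-1 : ℤ)) * 1 := mul_le_mul' le_rfl (hc1 N)
    _ = exp (-(N : ℤ)) := by
      rw [mul_one]
      congr 1
      simp

end Base

section General

variable {K : Type u} {F E : Type v} [Field K] [Field F] [Field E] [Algebra K F]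
  [Algebra F E] [Algebra K E] [IsScalarTower K F E]
  {v : Valuation F (WithZero (Multiplicative ℤ))} {w : Valuation E (WithZero (Multiplicative ℤ))}
  {φ : F →ₐ[K] LaurentSeries K}

omit [Algebra K F] [Algebra K E] [IsScalarTower K F E] in
theorem val_alg_le {e : ℕ} (he : 0 < e) (hvw : ∀ c : F, w (algebraMap F E c) = v c ^ e) {c : F}
    {N : ℕ} (h : v c ≤ exp (-(N : ℤ))) : w (algebraMap F E c) ≤ exp (-(N : ℤ)) := by
  rw [hvw]
  have h1 : exp (-(N : ℤ)) ≤ (1 : WithZero (Multiplicative ℤ)) := by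
    rw [← exp_zero, exp_le_exp]
    omega
  calc v c ^ e ≤ exp (-(N : ℤ)) ^ e := pow_le_pow_left' h e
    _ ≤ exp (-(N : ℤ)) ^ 1 := pow_le_pow_right_of_le_one' h1 he
    _ = _ := pow_one _

omit [Algebra K F] [Algebra K E] [IsScalarTower K F E] in
theorem val_alg_le_one {e : ℕ} (hvw : ∀ c : F, w (algebraMap F E c) = v c ^ e) {c : F}
    (h : v c ≤ 1) : w (algebraMap F E c) ≤ 1 := by
  rw [hvw]
  exact pow_le_one' h e

theorem eq_zero_of_forall_le {d : E} (h : ∀ N : ℕ, w d ≤ exp (-(N : ℤ))) : d = 0 := by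
  by_contra hd
  have hne : w d ≠ 0 := (Valuation.ne_zero_iff _).2 hd
  obtain ⟨m, hm⟩ : ∃ m : ℤ, w d = exp m := ⟨_, (exp_log hne).symm⟩
  have h1 := h (1 - m).toNat
  rw [hm, exp_le_exp] at h1
  omega

/-- **Completeness gives spanning**: a finite family generating the valuation ring above modulo
`t` over the coefficient field generates it over the valuation ring below. -/
theorem complete_span (hφ : LocRes.IsExpansionAt v φ) (hφs : Function.Surjective φ) {t : F}
    (ht : φ t = HahnSeries.single 1 1) {e : ℕ} (he : 0 < e)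
    (hvw : ∀ c : F, w (algebraMap F E c) = v c ^ e)
    {ι : Type*} [Fintype ι] (β : ι → E) (hβ : ∀ κ, w (β κ) ≤ 1)
    (hP : ∀ z : E, w z ≤ 1 → ∃ a : ι → K, ∃ z' : E, w z' ≤ 1 ∧
      z = ∑ κ, algebraMap K E (a κ) * β κ + algebraMap F E t * z') :
    ∀ z : E, w z ≤ 1 → ∃ c : ι → F, (∀ κ, v (c κ) ≤ 1) ∧ z = ∑ κ, algebraMap F E (c κ) * β κ := by
  intro z hz
  have hvt := val_t hφ ht
  choose A S hS1 hS2 using hP
  let seq : ℕ → {z : E // w z ≤ 1} :=
    fun n => Nat.rec ⟨z, hz⟩ (fun _ p => ⟨S p.1 p.2, hS1 p.1 p.2⟩) n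
  have hseq0 : (seq 0).1 = z := rfl
  have hseqS : ∀ l, (seq (l + 1)).1 = S (seq l).1 (seq l).2 := fun l => rfl
  set a : ℕ → ι → K := fun l => A (seq l).1 (seq l).2 with ha
  have hstep : ∀ l, (seq l).1 = ∑ κ, algebraMap K E (a l κ) * β κ +
      algebraMap F E t * (seq (l + 1)).1 := fun l => by
    rw [hseqS]
    exact hS2 (seq l).1 (seq l).2
  choose c hc1 hc2 using fun κ => exists_limit hφ hφs ht fun l => a l κ
  refine ⟨c, hc1, ?_⟩
  have hpart : ∀ N : ℕ, z = ∑ κ, algebraMap F E
      (∑ l ∈ Finset.range N, algebraMap K F (a l κ) * t ^ l) * β κ +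
      algebraMap F E t ^ N * (seq N).1 := by
    intro N
    induction N with
    | zero => simp [hseq0]
    | succ N ih =>
      conv_lhs => rw [ih, hstep N]
      rw [mul_add, Finset.mul_sum, ← add_assoc, ← Finset.sum_add_distrib, pow_succ, mul_assoc]
      congr 1
      refine Finset.sum_congr rfl fun κ _ => ?_
      rw [Finset.sum_range_succ, map_add, map_mul, map_pow,
        ← IsScalarTower.algebraMap_apply K F E]
      ring
  have hdiff : ∀ N : ℕ, w (z - ∑ κ, algebraMap F E (c κ) * β κ) ≤ exp (-(N : ℤ)) := by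
    intro N
    have e1 : z - ∑ κ, algebraMap F E (c κ) * β κ =
        algebraMap F E (t ^ N) * (seq N).1 -
        ∑ κ, algebraMap F E (c κ - ∑ l ∈ Finset.range N, algebraMap K F (a l κ) * t ^ l) * β κ := by
      conv_lhs => rw [hpart N]
      rw [map_pow]
      simp only [map_sub, sub_mul, Finset.sum_sub_distrib]
      ring
    rw [e1]
    refine (Valuation.map_sub w _ _).trans (max_le ?_ ?_)
    · rw [map_mul]
      have h1 : v (t ^ N) ≤ exp (-(N : ℤ)) := by
        rw [map_pow, hvt, ← exp_nsmul]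
        rw [exp_le_exp]
        simp
      calc w (algebraMap F E (t ^ N)) * w (seq N).1 ≤ exp (-(N : ℤ)) * 1 :=
            mul_le_mul' (val_alg_le he hvw h1) (seq N).2
        _ = _ := mul_one _
    · refine Valuation.map_sum_le _ fun κ _ => ?_
      rw [map_mul]
      calc w (algebraMap F E (c κ - ∑ l ∈ Finset.range N, algebraMap K F (a l κ) * t ^ l)) * w (β κ)
          ≤ exp (-(N : ℤ)) * 1 := mul_le_mul' (val_alg_le he hvw (hc2 κ N)) (hβ κ)
        _ = _ := mul_one _
  exact sub_eq_zero.1 (eq_zero_of_forall_le hdiff)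

/-- **Independence modulo `t` gives independence**. -/
theorem independent_of_mod (hφ : LocRes.IsExpansionAt v φ) {t : F}
    (ht : φ t = HahnSeries.single 1 1) {e : ℕ}
    (hvw : ∀ c : F, w (algebraMap F E c) = v c ^ e)
    {ι : Type*} [Fintype ι] (β : ι → E) (hβ : ∀ κ, w (β κ) ≤ 1)
    (hInd : ∀ a : ι → K, w (∑ κ, algebraMap K E (a κ) * β κ) ≤ w (algebraMap F E t) →
      ∀ κ, a κ = 0) :
    LinearIndependent F β := by
  classical
  rw [Fintype.linearIndependent_iff]
  intro g hg
  by_contra hne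
  push_neg at hne
  obtain ⟨κ₁, hκ₁⟩ := hne
  obtain ⟨κ₀, -, hmax⟩ := Finset.exists_max_image Finset.univ (fun κ => v (g κ))
    ⟨κ₁, Finset.mem_univ _⟩
  have hg0 : g κ₀ ≠ 0 := by
    intro h0
    have h1 := hmax κ₁ (Finset.mem_univ _)
    simp only [h0, map_zero, le_zero_iff] at h1
    exact hκ₁ ((map_eq_zero _).1 h1)
  have hv0 : v (g κ₀) ≠ 0 := (Valuation.ne_zero_iff _).2 hg0
  obtain ⟨c, hc⟩ : ∃ c : ι → F, ∀ κ, c κ = (g κ₀)⁻¹ * g κ := ⟨_, fun _ => rfl⟩
  have hc1 : ∀ κ, v (c κ) ≤ 1 := by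
    intro κ
    rw [hc, map_mul, map_inv₀]
    calc (v (g κ₀))⁻¹ * v (g κ) ≤ (v (g κ₀))⁻¹ * v (g κ₀) :=
          mul_le_mul' le_rfl (hmax κ (Finset.mem_univ _))
      _ = 1 := inv_mul_cancel₀ hv0
  have hc0 : c κ₀ = 1 := by rw [hc, inv_mul_cancel₀ hg0]
  have hcsum : ∑ κ, algebraMap F E (c κ) * β κ = 0 := by
    have : ∑ κ, algebraMap F E (c κ) * β κ = algebraMap F E (g κ₀)⁻¹ * ∑ κ, g κ • β κ := by
      rw [Finset.mul_sum]
      refine Finset.sum_congr rfl fun κ _ => ?_
      rw [hc, Algebra.smul_def, map_mul, mul_assoc]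
    rw [this, hg, mul_zero]
  choose c' hc'1 hc'2 using fun κ => exists_decomp hφ ht (hc1 κ)
  obtain ⟨a, ha⟩ : ∃ a : ι → K, ∀ κ, a κ = (φ (c κ)).coeff 0 := ⟨_, fun _ => rfl⟩
  have hasum : ∑ κ, algebraMap K E (a κ) * β κ =
      -(algebraMap F E t * ∑ κ, algebraMap F E (c' κ) * β κ) := by
    rw [eq_neg_iff_add_eq_zero, Finset.mul_sum, ← Finset.sum_add_distrib, ← hcsum]
    refine Finset.sum_congr rfl fun κ _ => ?_
    have h1 : algebraMap F E (c κ) =
        algebraMap K E (a κ) + algebraMap F E t * algebraMap F E (c' κ) := by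
      conv_lhs => rw [hc'2 κ]
      rw [map_add, map_mul, ← IsScalarTower.algebraMap_apply K F E, ha]
    rw [h1]
    ring
  have hle : w (∑ κ, algebraMap K E (a κ) * β κ) ≤ w (algebraMap F E t) := by
    rw [hasum, Valuation.map_neg, map_mul]
    have : w (∑ κ, algebraMap F E (c' κ) * β κ) ≤ 1 := by
      refine Valuation.map_sum_le _ fun κ _ => ?_
      rw [map_mul]
      exact mul_le_one' (val_alg_le_one hvw (hc'1 κ)) (hβ κ)
    calc w (algebraMap F E t) * w (∑ κ, algebraMap F E (c' κ) * β κ)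
        ≤ w (algebraMap F E t) * 1 := mul_le_mul' le_rfl this
      _ = _ := mul_one _
  have h0 := hInd a hle κ₀
  rw [ha, hc0, map_one, HahnSeries.coeff_one, if_pos rfl] at h0
  exact one_ne_zero h0

end General

section Final

variable {K L : Type u} {F E : Type v} [Field K] [Field L] [Field F] [Field E] [Algebra K F]
  [Algebra F E] [Algebra K E] [IsScalarTower K F E] [Algebra K L] [Algebra L E]
  [IsScalarTower K L E] [FiniteDimensional K L]
  {v : Valuation F (WithZero (Multiplicative ℤ))} {w : Valuation E (WithZero (Multiplicative ℤ))}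
  [v.HasExtension w]
  {φ : F →ₐ[K] LaurentSeries K} {ψ : E →ₐ[L] LaurentSeries L}

set_option maxHeartbeats 1000000 in
/-- **Integral basis**: over a complete discretely valued field with a coefficient field, the
valuation ring of a finite extension (with a compatible coefficient field) is free over the
valuation ring below, on a basis of the field extension. -/
theorem exists_integral_basis (hφ : LocRes.IsExpansionAt v φ) (hφs : Function.Surjective φ)
    (hψ : LocRes.IsExpansionAt w ψ) :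
    ∃ (ι : Type) (_ : Fintype ι) (B : Module.Basis ι F E),
      ∀ z : E, w z ≤ 1 ↔ ∀ κ, v (B.repr z κ) ≤ 1 := by
  classical
  obtain ⟨t, ht⟩ := hφs (HahnSeries.single 1 1)
  have hvt := val_t hφ ht
  obtain ⟨e, he, hvw⟩ := exists_ramIdx (v := v) (w := w) hvt
  obtain ⟨ϖ, hϖ⟩ := hψ.2.2
  have hϖ1 : w ϖ ≤ 1 := by
    rw [hϖ, ← exp_zero, exp_le_exp]
    norm_num
  have hwt : w (algebraMap F E t) = exp (-(e : ℤ)) := by
    rw [hvw, hvt, ← exp_nsmul]
    congr 1
    simp
  have hwt0 : algebraMap F E t ≠ 0 := by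
    intro h0
    rw [h0, map_zero] at hwt
    exact exp_ne_zero hwt.symm
  let ω := Module.finBasis K L
  let β : Fin (Module.finrank K L) × Fin e → E := fun p => algebraMap L E (ω p.1) * ϖ ^ (p.2 : ℕ)
  have hβ : ∀ p, w (β p) ≤ 1 := by
    intro p
    show w (algebraMap L E (ω p.1) * ϖ ^ (p.2 : ℕ)) ≤ 1
    rw [map_mul, map_pow]
    exact mul_le_one' (val_algebraMap_L_le hψ _) (pow_le_one' hϖ1 _)
  have hsum : ∀ a : Fin (Module.finrank K L) × Fin e → K, ∑ p, algebraMap K E (a p) * β p =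
      ∑ j : Fin e, algebraMap L E (∑ i, a (i, j) • ω i) * ϖ ^ (j : ℕ) := by
    intro a
    rw [Fintype.sum_prod_type_right]
    refine Finset.sum_congr rfl fun j _ => ?_
    rw [map_sum, Finset.sum_mul]
    refine Finset.sum_congr rfl fun i _ => ?_
    rw [Algebra.smul_def, map_mul, ← IsScalarTower.algebraMap_apply K L E]
    show _ * (algebraMap L E (ω i) * ϖ ^ (j : ℕ)) = _
    ring
  have hP : ∀ z : E, w z ≤ 1 → ∃ a : Fin (Module.finrank K L) × Fin e → K, ∃ z' : E, w z' ≤ 1 ∧
      z = ∑ p, algebraMap K E (a p) * β p + algebraMap F E t * z' := by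
    intro z hz
    obtain ⟨r, hr⟩ := exists_digits hψ hϖ e z hz
    refine ⟨fun p => ω.repr (r p.2) p.1,
      (algebraMap F E t)⁻¹ * (z - ∑ j ∈ Finset.range e, algebraMap L E (r j) * ϖ ^ j), ?_, ?_⟩
    · rw [map_mul, map_inv₀, hwt]
      calc (exp (-(e : ℤ)))⁻¹ * w (z - ∑ j ∈ Finset.range e, algebraMap L E (r j) * ϖ ^ j)
          ≤ (exp (-(e : ℤ)))⁻¹ * exp (-(e : ℤ)) := mul_le_mul' le_rfl hr
        _ = 1 := inv_mul_cancel₀ exp_ne_zero
    · rw [hsum, ← mul_assoc, mul_inv_cancel₀ hwt0, one_mul, Finset.sum_range]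
      have : ∀ j : Fin e, (∑ i, ω.repr (r j) i • ω i) = r j := fun j => ω.sum_repr (r j)
      simp only [this]
      ring
  have hInd : ∀ a : Fin (Module.finrank K L) × Fin e → K,
      w (∑ p, algebraMap K E (a p) * β p) ≤ w (algebraMap F E t) → ∀ p, a p = 0 := by
    intro a ha
    rw [hsum, hwt] at ha
    let r : ℕ → L := fun j => if h : j < e then ∑ i, a (i, ⟨j, h⟩) • ω i else 0
    have hr : ∀ j : Fin e, r j = ∑ i, a (i, j) • ω i := fun j => dif_pos j.2
    have h1 : ∑ j : Fin e, algebraMap L E (∑ i, a (i, j) • ω i) * ϖ ^ (j : ℕ) =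
        ∑ j ∈ Finset.range e, algebraMap L E (r j) * ϖ ^ j := by
      rw [Finset.sum_range]
      refine Finset.sum_congr rfl fun j _ => ?_
      rw [hr]
    rw [h1] at ha
    have h2 := digits_eq_zero hψ hϖ e r ha
    rintro ⟨i, j⟩
    have h3 := h2 j j.2
    rw [hr] at h3
    exact Fintype.linearIndependent_iff.1 ω.linearIndependent (fun i => a (i, j)) h3 i
  have hli := independent_of_mod hφ ht hvw β hβ hInd
  have hspan := complete_span hφ hφs ht he hvw β hβ hP
  have hsp : ⊤ ≤ Submodule.span F (Set.range β) := by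
    intro z _
    obtain ⟨N, hN⟩ : ∃ N : ℕ, w (algebraMap F E (t ^ N) * z) ≤ 1 := by
      rcases eq_or_ne z 0 with rfl | hz
      · exact ⟨0, by simp⟩
      · obtain ⟨m, hm⟩ : ∃ m : ℤ, w z = exp m :=
          ⟨_, (exp_log ((Valuation.ne_zero_iff _).2 hz)).symm⟩
        refine ⟨m.toNat, ?_⟩
        rw [map_mul, hm]
        have h1 : v (t ^ m.toNat) ≤ exp (-(m.toNat : ℤ)) := by
          rw [map_pow, hvt, ← exp_nsmul, exp_le_exp]
          simp
        calc w (algebraMap F E (t ^ m.toNat)) * exp m ≤ exp (-(m.toNat : ℤ)) * exp m :=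
              mul_le_mul' (val_alg_le he hvw h1) le_rfl
          _ ≤ 1 := by
            rw [← exp_add, ← exp_zero, exp_le_exp]
            omega
    obtain ⟨c, -, hc⟩ := hspan _ hN
    have ht0 : algebraMap F E (t ^ N) ≠ 0 := by
      rw [map_pow]
      exact pow_ne_zero _ hwt0
    have hz : z = (t ^ N)⁻¹ • ∑ κ, c κ • β κ := by
      rw [Algebra.smul_def, map_inv₀]
      simp only [Algebra.smul_def]
      rw [← hc, ← mul_assoc, inv_mul_cancel₀ ht0, one_mul]
    rw [hz]
    exact Submodule.smul_mem _ _ (Submodule.sum_mem _ fun κ _ =>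
      Submodule.smul_mem _ _ (Submodule.subset_span ⟨κ, rfl⟩))
  refine ⟨Fin (Module.finrank K L) × Fin e, inferInstance, Module.Basis.mk hli hsp,
    fun z => ⟨fun hz => ?_, fun hz => ?_⟩⟩
  · obtain ⟨c, hc1, hc2⟩ := hspan z hz
    have hz' : z = ∑ κ, c κ • (Module.Basis.mk hli hsp) κ := by
      rw [hc2]
      refine Finset.sum_congr rfl fun κ _ => ?_
      rw [Module.Basis.mk_apply, Algebra.smul_def]
    intro κ
    rw [hz', Module.Basis.repr_sum_self]
    exact hc1 κ
  · rw [← (Module.Basis.mk hli hsp).sum_repr z]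
    refine Valuation.map_sum_le _ fun κ _ => ?_
    rw [Module.Basis.mk_apply, Algebra.smul_def, map_mul]
    exact mul_le_one' (val_alg_le_one hvw (hz κ)) (hβ κ)

end Final

theorem isScalarTower_laurent (K L : Type u) [Field K] [Field L] [Algebra K L] :
    @IsScalarTower K L (LaurentSeries L) Algebra.toSMul Algebra.toSMul Algebra.toSMul := by
  refine IsScalarTower.of_algebraMap_eq fun a => ?_
  rw [HahnSeries.algebraMap_apply', PowerSeries.algebraMap_apply, HahnSeries.ofPowerSeries_C,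
    HahnSeries.algebraMap_apply', PowerSeries.algebraMap_apply, HahnSeries.ofPowerSeries_C,
    Algebra.algebraMap_self, RingHom.id_apply]

end Groth.Agent.Lib.Helper18.Tate.Complete
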