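import Mathlib.LinearAlgebra.Trace
import Mathlib.LinearAlgebra.FiniteDimensional.Lemmas
import Mathlib.RingTheory.Nilpotent.Lemmas

/-! # Trace of finite-rank endomorphisms of a vector space -/

set_option autoImplicit false

namespace Groth.Agent.Lib.Helper18.Tate

open LinearMap

universe u v w

variable {k : Type u} [Field k] {V : Type v} [AddCommGroup V] [Module k V]
  {W : Type w} [AddCommGroup W] [Module k W]

/-- `T` has finite rank. -/
def IsFR (T : V →ₗ[k] W) : Prop := FiniteDimensional k (LinearMap.range T)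

theorem IsFR.of_range_le {T : V →ₗ[k] W} {U : Submodule k W} (hU : FiniteDimensional k U)
    (h : LinearMap.range T ≤ U) : IsFR T :=
  Submodule.finiteDimensional_of_le h

theorem isFR_zero : IsFR (0 : V →ₗ[k] W) := by
  unfold IsFR
  rw [LinearMap.range_zero]
  infer_instance

theorem IsFR.add {T S : V →ₗ[k] W} (hT : IsFR T) (hS : IsFR S) : IsFR (T + S) := by
  unfold IsFR at *
  haveI := hT
  haveI := hS
  refine Submodule.finiteDimensional_of_le (S₂ := LinearMap.range T ⊔ LinearMap.range S) ?_
  rintro _ ⟨x, rfl⟩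
  exact Submodule.add_mem_sup (LinearMap.mem_range_self T x) (LinearMap.mem_range_self S x)

theorem IsFR.smul {T : V →ₗ[k] W} (hT : IsFR T) (c : k) : IsFR (c • T) := by
  unfold IsFR at *
  haveI := hT
  refine Submodule.finiteDimensional_of_le (S₂ := LinearMap.range T) ?_
  rintro _ ⟨x, rfl⟩
  exact Submodule.smul_mem _ c (LinearMap.mem_range_self T x)

theorem IsFR.neg {T : V →ₗ[k] W} (hT : IsFR T) : IsFR (-T) := by
  have := hT.smul (-1 : k)
  simpa using this

theorem IsFR.sub {T S : V →ₗ[k] W} (hT : IsFR T) (hS : IsFR S) : IsFR (T - S) := by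
  rw [sub_eq_add_neg]
  exact hT.add hS.neg

theorem IsFR.comp_right {U : Type*} [AddCommGroup U] [Module k U] {T : V →ₗ[k] W} (hT : IsFR T)
    (S : U →ₗ[k] V) : IsFR (T ∘ₗ S) := by
  unfold IsFR at *
  haveI := hT
  exact Submodule.finiteDimensional_of_le (LinearMap.range_comp_le_range S T)

theorem IsFR.comp_left {U : Type*} [AddCommGroup U] [Module k U] {T : V →ₗ[k] W} (hT : IsFR T)
    (S : W →ₗ[k] U) : IsFR (S ∘ₗ T) := by
  unfold IsFR at *
  haveI := hT
  rw [LinearMap.range_comp]
  infer_instance

/-- The trace of a finite-rank endomorphism (junk value otherwise). -/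
noncomputable def frTrace (T : V →ₗ[k] V) : k :=
  LinearMap.trace k (LinearMap.range T)
    (T.restrict (p := LinearMap.range T) (q := LinearMap.range T)
      (fun x _ => LinearMap.mem_range_self T x))

theorem frTrace_eq_trace_restrict {T : V →ₗ[k] V} {U : Submodule k V} [FiniteDimensional k U]
    (hU : LinearMap.range T ≤ U) :
    frTrace T = LinearMap.trace k U (T.restrict (p := U) (q := U)
      (fun x _ => hU (LinearMap.mem_range_self T x))) := by
  haveI : FiniteDimensional k (LinearMap.range T) := Submodule.finiteDimensional_of_le hU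
  set ι : LinearMap.range T →ₗ[k] U := Submodule.inclusion hU
  set p : U →ₗ[k] LinearMap.range T :=
    (T.domRestrict U).codRestrict (LinearMap.range T) (fun x => LinearMap.mem_range_self T x)
  have h1 : T.restrict (p := U) (q := U) (fun x _ => hU (LinearMap.mem_range_self T x)) = ι ∘ₗ p := by
    ext x; rfl
  have h2 : T.restrict (p := LinearMap.range T) (q := LinearMap.range T)
      (fun x _ => LinearMap.mem_range_self T x) = p ∘ₗ ι := by
    ext x; rfl
  unfold frTrace
  rw [h1, h2]
  exact LinearMap.trace_comp_comm' ι p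

theorem frTrace_zero : frTrace (0 : V →ₗ[k] V) = 0 := by
  haveI : FiniteDimensional k (⊥ : Submodule k V) := inferInstance
  rw [frTrace_eq_trace_restrict (U := ⊥) (by rw [LinearMap.range_zero])]
  have : (0 : V →ₗ[k] V).restrict (p := (⊥ : Submodule k V)) (q := ⊥)
      (fun x _ => (by rw [LinearMap.range_zero] : LinearMap.range (0 : V →ₗ[k] V) ≤ ⊥)
        (LinearMap.mem_range_self _ x)) = 0 := by
    ext x
  rw [this, map_zero]

theorem frTrace_add {T S : V →ₗ[k] V} (hT : IsFR T) (hS : IsFR S) :
    frTrace (T + S) = frTrace T + frTrace S := by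
  unfold IsFR at hT hS
  haveI := hT
  haveI := hS
  set U := LinearMap.range T ⊔ LinearMap.range S
  have hTU : LinearMap.range T ≤ U := le_sup_left
  have hSU : LinearMap.range S ≤ U := le_sup_right
  have hTSU : LinearMap.range (T + S) ≤ U := by
    rintro _ ⟨x, rfl⟩
    exact Submodule.add_mem_sup (LinearMap.mem_range_self T x) (LinearMap.mem_range_self S x)
  rw [frTrace_eq_trace_restrict hTU, frTrace_eq_trace_restrict hSU, frTrace_eq_trace_restrict hTSU,
    ← map_add]
  congr 1

theorem frTrace_smul {T : V →ₗ[k] V} (hT : IsFR T) (c : k) :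
    frTrace (c • T) = c * frTrace T := by
  unfold IsFR at hT
  haveI := hT
  have h1 : LinearMap.range (c • T) ≤ LinearMap.range T := by
    rintro _ ⟨x, rfl⟩
    exact Submodule.smul_mem _ c (LinearMap.mem_range_self T x)
  rw [frTrace_eq_trace_restrict h1, frTrace_eq_trace_restrict (le_refl (LinearMap.range T)),
    ← smul_eq_mul, ← map_smul]
  congr 1

theorem frTrace_neg {T : V →ₗ[k] V} (hT : IsFR T) : frTrace (-T) = -frTrace T := by
  have := frTrace_smul hT (-1)
  simpa using this

theorem frTrace_sub {T S : V →ₗ[k] V} (hT : IsFR T) (hS : IsFR S) :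
    frTrace (T - S) = frTrace T - frTrace S := by
  rw [sub_eq_add_neg, frTrace_add hT hS.neg, frTrace_neg hS, sub_eq_add_neg]

/-- `tr (X Y) = tr (Y X)` when `X` has finite rank. -/
theorem frTrace_comp_comm (X : V →ₗ[k] W) (Y : W →ₗ[k] V) (hX : IsFR X) :
    frTrace (X ∘ₗ Y) = frTrace (Y ∘ₗ X) := by
  unfold IsFR at hX
  haveI := hX
  set R := LinearMap.range X
  set R' := R.map Y
  haveI : FiniteDimensional k R' := inferInstance
  have h1 : LinearMap.range (X ∘ₗ Y) ≤ R := LinearMap.range_comp_le_range Y X
  have h2 : LinearMap.range (Y ∘ₗ X) ≤ R' := by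
    rw [LinearMap.range_comp]
  rw [frTrace_eq_trace_restrict h1, frTrace_eq_trace_restrict h2]
  set a : R →ₗ[k] R' := Y.restrict (p := R) (q := R') (fun x hx => Submodule.mem_map_of_mem hx)
  set b : R' →ₗ[k] R := (X.domRestrict R').codRestrict R (fun x => LinearMap.mem_range_self X x)
  have e1 : (X ∘ₗ Y).restrict (p := R) (q := R)
      (fun x _ => h1 (LinearMap.mem_range_self _ x)) = b ∘ₗ a := by
    ext x; rfl
  have e2 : (Y ∘ₗ X).restrict (p := R') (q := R')
      (fun x _ => h2 (LinearMap.mem_range_self _ x)) = a ∘ₗ b := by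
    ext x; rfl
  rw [e1, e2]
  exact LinearMap.trace_comp_comm' a b

/-- A nilpotent finite-rank endomorphism has trace zero. -/
theorem frTrace_eq_zero_of_pow {T : V →ₗ[k] V} (hT : IsFR T) {n : ℕ} (hn : T ^ n = 0) :
    frTrace T = 0 := by
  unfold IsFR at hT
  haveI := hT
  unfold frTrace
  set T' := T.restrict (p := LinearMap.range T) (q := LinearMap.range T)
      (fun x _ => LinearMap.mem_range_self T x)
  have hnil : IsNilpotent T' := by
    refine ⟨n, ?_⟩
    ext x
    have : ∀ m : ℕ, ∀ y : LinearMap.range T, (((T' ^ m) y : LinearMap.range T) : V) = (T ^ m) y := by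
      intro m
      induction m with
      | zero => intro y; simp
      | succ m ih =>
        intro y
        rw [pow_succ', pow_succ', Module.End.mul_apply, Module.End.mul_apply, ← ih y]
        rfl
    rw [this n x, hn]
    rfl
  have := LinearMap.isNilpotent_trace_of_isNilpotent hnil
  exact IsNilpotent.eq_zero this

end Groth.Agent.Lib.Helper18.Tate
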