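import Groth.Agent.Lib.Helper18.Tate.Res2

/-! # Abstract global vanishing of the residue -/

set_option autoImplicit false

namespace Groth.Agent.Lib.Helper18.Tate

open LinearMap

universe u v w

variable {k : Type u} [Field k] {V : Type v} [AddCommGroup V] [Module k V]

theorem exists_isProj (A : Submodule k V) : ∃ π : Module.End k V, IsProj A π := by
  obtain ⟨C, hC⟩ := Submodule.exists_isCompl A
  exact ⟨A.projection C hC, ⟨fun x => Submodule.projection_apply_mem hC x,
    fun x hx => Submodule.projection_apply_of_mem_left hC hx⟩⟩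

/-- If `B` is stable under `f`, `g`, `A ⊓ B` is finite-dimensional and `A ⊔ B` has finite
codimension then the residue relative to `A` vanishes. -/
theorem res_global {A B : Submodule k V} {π : Module.End k V} (hπ : IsProj A π)
    {f g : Module.End k V} (hf : E A f) (hg : E A g) (hfg : Commute f g)
    (hfB : ∀ x ∈ B, f x ∈ B) (hgB : ∀ x ∈ B, g x ∈ B)
    (hAB : FiniteDimensional k (A ⊓ B : Submodule k V)) (hV : Sub ⊤ (A ⊔ B)) :
    res π f g = 0 := by
  obtain ⟨C₀, hC₀⟩ := Submodule.exists_isCompl (A ⊓ B)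
  set B' := B ⊓ C₀ with hB'
  have hB'A : Disjoint A B' := by
    rw [Submodule.disjoint_def]
    intro x hxA hxB'
    exact (Submodule.disjoint_def.mp hC₀.disjoint) x ⟨hxA, hxB'.1⟩ hxB'.2
  have hBle : B ≤ B' ⊔ (A ⊓ B) := by
    intro b hb
    have : b ∈ (A ⊓ B) ⊔ C₀ := by rw [hC₀.sup_eq_top]; trivial
    obtain ⟨x, hx, c, hc, rfl⟩ := Submodule.mem_sup.mp this
    rw [add_comm]
    refine Submodule.add_mem_sup ⟨?_, hc⟩ hx
    have : c = (x + c) - x := by abel
    rw [this]
    exact Submodule.sub_mem _ hb hx.2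
  obtain ⟨H, hH⟩ := Submodule.exists_isCompl (A ⊔ B')
  obtain ⟨W, hW, hVW⟩ := hV
  haveI := hW
  haveI := hAB
  have hHfd : FiniteDimensional k H := by
    -- `H` is the image of `W ⊔ (A ⊓ B)` under the projection onto `H` along `A ⊔ B'`
    have hH' : IsCompl H (A ⊔ B') := hH.symm
    set p := H.projection (A ⊔ B') hH' with hp
    have : H ≤ (W ⊔ (A ⊓ B)).map p := by
      intro h hh
      have h1 : h ∈ A ⊔ B ⊔ W := hVW trivial
      obtain ⟨y, hy, w, hw, e⟩ := Submodule.mem_sup.mp h1
      obtain ⟨a, ha, b, hb, e'⟩ := Submodule.mem_sup.mp hy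
      obtain ⟨b', hb', z, hz, e''⟩ := Submodule.mem_sup.mp (hBle hb)
      refine ⟨w + z, Submodule.add_mem_sup hw hz, ?_⟩
      have hh' : p h = h := Submodule.projection_apply_of_mem_left hH' hh
      have hab' : p (a + b') = 0 :=
        Submodule.projection_apply_of_mem_right hH' (Submodule.add_mem_sup ha hb')
      have : h = (a + b') + (w + z) := by rw [← e, ← e', ← e'']; abel
      calc p (w + z) = p ((a + b') + (w + z)) := by rw [map_add p (a + b'), hab', zero_add]
        _ = p h := by rw [← this]
        _ = h := hh'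
    exact Submodule.finiteDimensional_of_le this
  set Am := B' ⊔ H with hAm
  have hcompl : IsCompl A Am := by
    constructor
    · rw [Submodule.disjoint_def]
      intro x hxA hxAm
      obtain ⟨b, hb, h, hh, rfl⟩ := Submodule.mem_sup.mp hxAm
      have h1 : h ∈ A ⊔ B' := by
        have : h = (b + h) - b := by abel
        rw [this]
        exact Submodule.sub_mem _ (Submodule.mem_sup_left hxA) (Submodule.mem_sup_right hb)
      have h0 : h = 0 := (Submodule.disjoint_def.mp hH.disjoint) h h1 hh
      rw [h0, add_zero] at hxA ⊢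
      exact (Submodule.disjoint_def.mp hB'A) b hxA hb
    · rw [codisjoint_iff, hAm, ← sup_assoc]
      exact hH.sup_eq_top
  set π₀ := A.projection Am hcompl with hπ₀def
  have hπ₀ : IsProj A π₀ := ⟨fun x => Submodule.projection_apply_mem hcompl x,
    fun x hx => Submodule.projection_apply_of_mem_left hcompl hx⟩
  have hker : LinearMap.ker π₀ = Am := Submodule.ker_projection hcompl
  have hcomm : Comm Am B := by
    constructor
    · exact ⟨H, hHfd, sup_le_sup_right inf_le_left H⟩
    · exact ⟨A ⊓ B, hAB, hBle.trans (sup_le_sup_right le_sup_left _)⟩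
  have hfB' : E B f := E.of_stable hfB
  have hgB' : E B g := E.of_stable hgB
  have h1 := res_compl hπ₀ hf hg (by rw [hker]; exact hfB'.congr hcomm.symm)
    (by rw [hker]; exact hgB'.congr hcomm.symm) hfg
  obtain ⟨πB, hπB⟩ := exists_isProj B
  have hπ₀' : IsProj Am (1 - π₀) := by
    have := proj_one_sub hπ₀
    rwa [hker] at this
  have h2 : res (1 - π₀) f g = res πB f g := res_indep hπB hπ₀' hcomm.symm hfB' hgB' hfg
  rw [h2, res_stable hπB hfB hgB hfg, add_zero] at h1
  rw [res_indep hπ₀ hπ (Comm.refl A) hf hg hfg]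
  exact h1

end Groth.Agent.Lib.Helper18.Tate
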