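import Groth.Agent.Lib.Helper18.Tate.Local
import Groth.Agent.Lib.Helper18.FF.StrongApprox

/-! # The residue theorem for function fields -/

set_option autoImplicit false
set_option linter.style.haveILetI false

namespace Groth.Agent.Lib.Helper18.Tate

open LinearMap HahnSeries LaurentSeries WithZero FunFld Groth.Agent.Lib.Helper18.FF

universe u v w

variable {k : Type u} [Field k] {K : Type v} [Field K] [Algebra k K]

section LocalExtra

variable {F : Type w} [Field F] [Algebra k F] [FiniteDimensional k F]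
  {w : Valuation K (WithZero (Multiplicative ℤ))} {φ : K →ₐ[k] LaurentSeries F}

theorem comap_Fil_sub (n m : ℤ) :
    Sub ((Fil k F n).comap (phiL φ)) ((Fil k F m).comap (phiL φ)) := by
  obtain ⟨W, hW, hle⟩ := Fil_sub (k := k) (F := F) n m
  haveI := hW
  refine sub_of_fd_image ((Fil k F m).mkQ ∘ₗ phiL φ) ?_ ?_
  · intro x _ hx
    rw [Submodule.mem_comap]
    simpa using hx
  · refine Submodule.finiteDimensional_of_le (S₂ := W.map (Fil k F m).mkQ) ?_
    rintro _ ⟨x, hx, rfl⟩
    obtain ⟨a, ha, b, hb, e⟩ := Submodule.mem_sup.mp (hle hx)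
    refine ⟨b, hb, ?_⟩
    rw [LinearMap.comp_apply, ← e, map_add]
    have : (Fil k F m).mkQ a = 0 := by simpa using ha
    rw [this, zero_add]

/-- The local residue vanishes when both functions are integral. -/
theorem locRes_eq_zero_of_le_one (hφ : LocRes.IsExpansionAt w φ) {u v : K} (hu : w u ≤ 1)
    (hv : w v ≤ 1) : LocRes.locRes φ u v = 0 := by
  obtain ⟨π, hπ⟩ := exists_isProj (OSub w (expansion_le_one hφ))
  rw [← res_local hφ hπ]
  refine res_stable hπ ?_ ?_ (MK_commute u v)
  · intro x hx
    show w (u * x) ≤ 1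
    rw [map_mul]; exact mul_le_one' hu hx
  · intro x hx
    show w (v * x) ≤ 1
    rw [map_mul]; exact mul_le_one' hv hx

end LocalExtra

variable (F : Place k K → Type w) [∀ P, Field (F P)] [∀ P, Algebra k (F P)]
  [∀ P, FiniteDimensional k (F P)]
  (φ : ∀ P, K →ₐ[k] LaurentSeries (F P))

/-- The residue theorem over a finite set of places containing all poles. -/
theorem sum_locRes_finset_eq_zero (hK : IsFunctionField k K)
    (hφ : ∀ P, LocRes.IsExpansionAt P.1 (φ P)) (S : Finset (Place k K)) (hS : S.Nonempty)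
    (u v : K) (hu : ∀ P ∉ S, P.1 u ≤ 1) (hv : ∀ P ∉ S, P.1 v ≤ 1) :
    ∑ P ∈ S, LocRes.locRes (φ P) u v = 0 := by
  classical
  set A : {P // P ∈ S} → Submodule k K := fun P => OSub P.1.1 (expansion_le_one (hφ P.1)) with hA
  choose π hπ using fun P : {P // P ∈ S} => exists_isProj (A P)
  have hEu : ∀ P : {P // P ∈ S}, E (A P) (MK k u) := fun P => MK_mem_E (hφ P.1) u
  have hEv : ∀ P : {P // P ∈ S}, E (A P) (MK k v) := fun P => MK_mem_E (hφ P.1) v
  have hpi := res_pi hπ hEu hEv (fun _ => MK_commute u v)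
  have hloc : ∀ P : {P // P ∈ S}, res (π P) (MK k u) (MK k v) = LocRes.locRes (φ P.1) u v :=
    fun P => res_local (hφ P.1) (hπ P) u v
  -- the subspace of `S`-integers, embedded diagonally
  let OS : Submodule k K :=
    { carrier := {x | ∀ P : Place k K, P ∉ S → P.1 x ≤ 1}
      add_mem' := fun {a b} ha hb P hP => (P.1.map_add a b).trans (max_le (ha P hP) (hb P hP))
      zero_mem' := fun P _ => by simp
      smul_mem' := fun c x hx P hP => by
        rw [Algebra.smul_def, map_mul]; exact mul_le_one' (P.2.1 c) (hx P hP) }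
  let dS : K →ₗ[k] ({P // P ∈ S} → K) := LinearMap.pi fun _ => LinearMap.id
  have hdS : ∀ x P, dS x P = x := fun _ _ => rfl
  set B : Submodule k ({P // P ∈ S} → K) := OS.map dS with hB
  have hstab : ∀ y : K, (∀ P ∉ S, P.1 y ≤ 1) → ∀ x ∈ B, piMap (fun _ : {P // P ∈ S} => MK k y) x ∈ B := by
    rintro y hy _ ⟨x, hx, rfl⟩
    refine ⟨y * x, ?_, ?_⟩
    · intro P hP
      rw [map_mul]; exact mul_le_one' (hy P hP) (hx P hP)
    · funext P; rfl
  -- finite-dimensionality of the intersection
  have hAB : FiniteDimensional k (Submodule.pi Set.univ A ⊓ B : Submodule k ({P // P ∈ S} → K)) := by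
    haveI := finiteDimensional_L hK (0 : Divisor k K)
    refine Submodule.finiteDimensional_of_le (S₂ := (L (0 : Divisor k K)).map dS) ?_
    rintro _ ⟨hA', x, hx, rfl⟩
    refine ⟨x, ?_, rfl⟩
    intro P
    rw [Finsupp.zero_apply, exp_zero]
    by_cases hP : P ∈ S
    · exact hA' ⟨P, hP⟩ trivial
    · exact hx P hP
  -- finite codimension of the sum
  have hV : Sub ⊤ (Submodule.pi Set.univ A ⊔ B) := by
    obtain ⟨Q, hQ⟩ := hS
    obtain ⟨l, hl⟩ := exists_delta_add_single_eq_genus hK 0 Q
    set D : Divisor k K := 0 + Finsupp.single Q (l : ℤ) with hD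
    set X : {P // P ∈ S} → Submodule k K :=
      fun P => (Fil k (F P.1) (-(D P.1))).comap (phiL (φ P.1)) with hX
    have hXA : ∀ P, Sub (X P) (A P) := by
      intro P
      have := comap_Fil_sub (k := k) (φ := φ P.1) (-(D P.1)) 0
      rwa [comap_Fil_zero (hφ P.1)] at this
    obtain ⟨W, hW, hle⟩ := Sub.pi hXA
    refine ⟨W, hW, ?_⟩
    intro α _
    set a : Place k K → K := fun P => if h : P ∈ S then α ⟨P, h⟩ else 0 with ha
    have hamem : a ∈ adele k K := by
      rw [mem_adele]
      refine S.finite_toSet.subset ?_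
      intro P hP
      by_contra hPS
      apply hP
      have : a P = 0 := dif_neg hPS
      rw [this, map_zero]; exact zero_le'
    obtain ⟨z, hz⟩ := exists_sub_mem_AD hK hl hamem
    have hzOS : z ∈ OS := by
      intro P hP
      have h1 := hz P
      have h2 : a P = 0 := dif_neg hP
      have h3 : D P = 0 := by
        rw [hD, zero_add, Finsupp.single_eq_of_ne (by rintro rfl; exact hP hQ)]
      rwa [h2, sub_zero, h3, exp_zero] at h1
    have hmem : α - dS z ∈ Submodule.pi Set.univ X := by
      intro P _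
      show (α - dS z) P ∈ (Fil k (F P.1) (-(D P.1))).comap (phiL (φ P.1))
      rw [Submodule.mem_comap, phiL_apply, mem_Fil_phi_iff (hφ P.1), neg_neg]
      have h1 := hz P.1
      have h2 : a P.1 = α P := by
        rw [ha]; simp only [P.2, dite_true]
      rw [h2, ← Valuation.map_neg] at h1
      have : -(z - α P) = (α - dS z) P := by
        rw [Pi.sub_apply, hdS]; ring
      rwa [this] at h1
    have e : α = (α - dS z) + dS z := by abel
    rw [e, sup_assoc, sup_comm B W, ← sup_assoc]
    exact Submodule.add_mem_sup (hle hmem) ⟨z, hzOS, rfl⟩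
  have hglob := res_global (isProj_piMap hπ) (E.piMap hEu) (E.piMap hEv)
    (show Commute (piMap fun _ : {P // P ∈ S} => MK k u) (piMap fun _ => MK k v) by
      unfold Commute SemiconjBy
      rw [← piMap_mul, ← piMap_mul]
      congr 1
      funext P
      exact (MK_commute u v).eq)
    (hstab u hu) (hstab v hv) hAB hV
  rw [hpi] at hglob
  rw [← Finset.sum_coe_sort S (fun P => LocRes.locRes (φ P) u v)]
  rw [← hglob]
  exact Finset.sum_congr rfl fun P _ => (hloc P).symm

/-- **The residue theorem.** -/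
theorem sum_locRes_eq_zero (hK : IsFunctionField k K)
    (hφ : ∀ P, LocRes.IsExpansionAt P.1 (φ P)) (u v : K) :
    (Function.support fun P => LocRes.locRes (φ P) u v).Finite ∧
      ∑ᶠ P, LocRes.locRes (φ P) u v = 0 := by
  classical
  have hfin : ({P : Place k K | ¬ P.1 u ≤ 1} ∪ {P : Place k K | ¬ P.1 v ≤ 1}).Finite :=
    (finite_poles' hK u).union (finite_poles' hK v)
  have hsupp : (Function.support fun P => LocRes.locRes (φ P) u v) ⊆
      {P : Place k K | ¬ P.1 u ≤ 1} ∪ {P : Place k K | ¬ P.1 v ≤ 1} := by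
    intro P hP
    by_contra hnot
    rw [Set.mem_union, not_or] at hnot
    simp only [Set.mem_setOf_eq, not_not] at hnot
    exact hP (locRes_eq_zero_of_le_one (hφ P) hnot.1 hnot.2)
  refine ⟨hfin.subset hsupp, ?_⟩
  obtain ⟨P₀⟩ := exists_place hK
  set S : Finset (Place k K) := insert P₀ hfin.toFinset with hS
  have hSsupp : (Function.support fun P => LocRes.locRes (φ P) u v) ⊆ ↑S := by
    intro P hP
    rw [hS, Finset.coe_insert]
    exact Set.mem_insert_of_mem _ (hfin.mem_toFinset.mpr (hsupp hP))
  rw [finsum_eq_sum_of_support_subset _ hSsupp]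
  refine sum_locRes_finset_eq_zero F φ hK hφ S ⟨P₀, Finset.mem_insert_self _ _⟩ u v ?_ ?_
  · intro P hP
    by_contra h
    exact hP (Finset.mem_insert_of_mem (hfin.mem_toFinset.mpr (Or.inl h)))
  · intro P hP
    by_contra h
    exact hP (Finset.mem_insert_of_mem (hfin.mem_toFinset.mpr (Or.inr h)))

end Groth.Agent.Lib.Helper18.Tate
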