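import Groth.Agent.Lib.Helper18.Tate.Pi
import Groth.Prelude.Def_LocRes

/-! # The abstract residue on Laurent series -/

set_option autoImplicit false

namespace Groth.Agent.Lib.Helper18.Tate

open LinearMap HahnSeries LaurentSeries WithZero

universe u v

variable (k : Type u) [Field k] (F : Type v) [Field F] [Algebra k F]

/-- The filtration of Laurent series by order. -/
def Fil (j : ℤ) : Submodule k (LaurentSeries F) where
  carrier := {v | ∀ n < j, v.coeff n = 0}
  add_mem' := by
    intro a b ha hb n hn
    rw [HahnSeries.coeff_add, ha n hn, hb n hn, add_zero]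
  zero_mem' := by intro n _; rfl
  smul_mem' := by
    intro c v hv n hn
    rw [HahnSeries.coeff_smul, hv n hn, smul_zero]

variable {k F}

theorem mem_Fil {j : ℤ} {v : LaurentSeries F} : v ∈ Fil k F j ↔ ∀ n < j, v.coeff n = 0 := Iff.rfl

theorem mem_Fil_iff_val {j : ℤ} {v : LaurentSeries F} :
    v ∈ Fil k F j ↔ Valued.v v ≤ exp (-j) :=
  (LaurentSeries.valuation_le_iff_coeff_lt_eq_zero F).symm

theorem Fil_anti {i j : ℤ} (h : i ≤ j) : Fil k F j ≤ Fil k F i :=
  fun _ hv n hn => hv n (lt_of_lt_of_le hn h)

theorem mul_mem_Fil {n j : ℤ} {f v : LaurentSeries F} (hf : f ∈ Fil k F n) (hv : v ∈ Fil k F j) :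
    f * v ∈ Fil k F (j + n) := by
  rw [mem_Fil_iff_val] at *
  rw [map_mul, add_comm, neg_add, exp_add]
  exact mul_le_mul' hf hv

theorem mem_Fil_order (v : LaurentSeries F) : v ∈ Fil k F v.order :=
  fun _ hn => HahnSeries.coeff_eq_zero_of_lt_order hn

theorem single_mem_Fil (i : ℤ) (a : F) : (HahnSeries.single i a : LaurentSeries F) ∈ Fil k F i := by
  intro n hn
  rw [HahnSeries.coeff_single_of_ne (ne_of_lt hn)]

theorem sub_single_mem_Fil {n : ℤ} {v : LaurentSeries F} (hv : v ∈ Fil k F n) :
    v - HahnSeries.single n (v.coeff n) ∈ Fil k F (n + 1) := by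
  intro m hm
  rw [HahnSeries.coeff_sub]
  rcases lt_or_eq_of_le (Int.lt_add_one_iff.mp hm) with h | h
  · rw [hv m h, HahnSeries.coeff_single_of_ne (ne_of_lt h), sub_zero]
  · rw [h, HahnSeries.coeff_single_same, sub_self]

/-- Truncation to the power-series part. -/
noncomputable def truncFun (v : LaurentSeries F) : LaurentSeries F :=
  ⟨fun n => if 0 ≤ n then v.coeff n else 0, v.isPWO_support.mono (by
    intro n hn
    simp only [Function.mem_support, ne_eq, ite_eq_right_iff, not_forall] at hn
    obtain ⟨_, h⟩ := hn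
    exact h)⟩

theorem truncFun_coeff (v : LaurentSeries F) (n : ℤ) :
    (truncFun v).coeff n = if 0 ≤ n then v.coeff n else 0 := rfl

variable (k F) in
/-- Truncation as a `k`-linear projection. -/
noncomputable def trunc : Module.End k (LaurentSeries F) where
  toFun := truncFun
  map_add' a b := by
    ext n
    simp only [truncFun_coeff, HahnSeries.coeff_add]
    split_ifs <;> simp
  map_smul' c a := by
    ext n
    simp only [truncFun_coeff, HahnSeries.coeff_smul, RingHom.id_apply]
    split_ifs <;> simp

theorem trunc_coeff (v : LaurentSeries F) (n : ℤ) :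
    (trunc k F v).coeff n = if 0 ≤ n then v.coeff n else 0 := rfl

theorem isProj_trunc : IsProj (Fil k F 0) (trunc k F) := by
  constructor
  · intro v n hn
    rw [trunc_coeff, if_neg (not_le.mpr hn)]
  · intro v hv
    ext n
    rw [trunc_coeff]
    split_ifs with h
    · rfl
    · exact (hv n (not_le.mp h)).symm

theorem smul_eq_C_mul (c : k) (v : LaurentSeries F) :
    c • v = HahnSeries.C (algebraMap k F c) * v := by
  rw [HahnSeries.C_mul_eq_smul, algebraMap_smul]

theorem mul_smul_comm' (c : k) (f v : LaurentSeries F) : f * (c • v) = c • (f * v) := by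
  rw [smul_eq_C_mul, smul_eq_C_mul, mul_left_comm]

theorem smul_mul_assoc' (c : k) (f v : LaurentSeries F) : (c • f) * v = c • (f * v) := by
  rw [smul_eq_C_mul, smul_eq_C_mul, mul_assoc]

variable (k) in
/-- Multiplication by a Laurent series, as a `k`-linear operator. -/
noncomputable def M (f : LaurentSeries F) : Module.End k (LaurentSeries F) where
  toFun v := f * v
  map_add' := mul_add f
  map_smul' c v := mul_smul_comm' c f v

@[simp] theorem M_apply (f v : LaurentSeries F) : M k f v = f * v := rfl

theorem M_add (f g : LaurentSeries F) : M k (f + g) = M k f + M k g := by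
  refine LinearMap.ext fun v => ?_; exact add_mul f g v

theorem M_smul (c : k) (f : LaurentSeries F) : M k (c • f) = c • M k f := by
  refine LinearMap.ext fun v => ?_; exact smul_mul_assoc' c f v

theorem M_mul (f g : LaurentSeries F) : M k (f * g) = M k f * M k g := by
  refine LinearMap.ext fun v => ?_; exact mul_assoc f g v

theorem M_commute (f g : LaurentSeries F) : Commute (M k f) (M k g) := by
  unfold Commute SemiconjBy
  rw [← M_mul, ← M_mul, mul_comm]

theorem M_maps_Fil {n : ℤ} {f : LaurentSeries F} (hf : f ∈ Fil k F n) (j : ℤ) :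
    ∀ x ∈ Fil k F j, M k f x ∈ Fil k F (j + n) :=
  fun _ hx => mul_mem_Fil hf hx

section FD

variable [FiniteDimensional k F]

theorem Fil_sub_succ (n : ℤ) : Sub (Fil k F n) (Fil k F (n + 1)) := by
  refine ⟨LinearMap.range (HahnSeries.single.linearMap (R := k) (V := F) n), inferInstance, ?_⟩
  intro v hv
  have : v = (v - HahnSeries.single n (v.coeff n)) + HahnSeries.single n (v.coeff n) := by abel
  rw [this]
  exact Submodule.add_mem_sup (sub_single_mem_Fil hv) ⟨v.coeff n, rfl⟩

theorem Fil_sub_add (n : ℤ) (d : ℕ) : Sub (Fil k F n) (Fil k F (n + d)) := by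
  induction d with
  | zero => simpa using Sub.refl _
  | succ d ih =>
    have := Fil_sub_succ (k := k) (F := F) (n + d)
    push_cast
    rw [← add_assoc]
    exact ih.trans this

theorem Fil_sub (n m : ℤ) : Sub (Fil k F n) (Fil k F m) := by
  rcases le_total m n with h | h
  · exact Sub.of_le (Fil_anti h)
  · have := Fil_sub_add (k := k) (F := F) n (m - n).toNat
    rwa [Int.toNat_of_nonneg (by omega), add_sub_cancel] at this

theorem M_mem_E (f : LaurentSeries F) : E (Fil k F 0) (M k f) := by
  have h1 : (Fil k F 0).map (M k f) ≤ Fil k F (0 + f.order) := by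
    rintro _ ⟨x, hx, rfl⟩
    exact M_maps_Fil (mem_Fil_order f) 0 x hx
  exact Sub.mono_left h1 (Fil_sub _ _)

end FD

end Groth.Agent.Lib.Helper18.Tate
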