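import Groth.Agent.Lib.Helper18.Tate.Laurent

/-! # The abstract residue on Laurent series equals the coefficient residue -/

set_option autoImplicit false

namespace Groth.Agent.Lib.Helper18.Tate

open LinearMap HahnSeries LaurentSeries WithZero

universe u v

variable {k : Type u} [Field k] {F : Type v} [Field F] [Algebra k F] [FiniteDimensional k F]

variable (k) in
/-- The concrete residue pairing. -/
noncomputable def Rc (f g : LaurentSeries F) : k :=
  Algebra.trace k F ((f * LocRes.D F g).coeff (-1))

variable (k) in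
/-- The abstract residue pairing. -/
noncomputable def rho (f g : LaurentSeries F) : k := res (trunc k F) (M k f) (M k g)

theorem Rc_add_left (f f' g : LaurentSeries F) : Rc k (f + f') g = Rc k f g + Rc k f' g := by
  unfold Rc
  rw [add_mul, HahnSeries.coeff_add, map_add]

theorem Rc_add_right (f g g' : LaurentSeries F) : Rc k f (g + g') = Rc k f g + Rc k f g' := by
  unfold Rc
  rw [map_add, mul_add, HahnSeries.coeff_add, map_add]

theorem rho_add_left (f f' g : LaurentSeries F) : rho k (f + f') g = rho k f g + rho k f' g := by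
  unfold rho
  rw [M_add]
  exact res_add_left isProj_trunc (M_mem_E f) (M_mem_E f') (M_mem_E g) (M_commute f g)
    (M_commute f' g)

theorem rho_add_right (f g g' : LaurentSeries F) : rho k f (g + g') = rho k f g + rho k f g' := by
  unfold rho
  rw [M_add]
  exact res_add_right isProj_trunc (M_mem_E f) (M_mem_E g) (M_mem_E g') (M_commute f g)
    (M_commute f g')

theorem D_mem_Fil {m : ℤ} {g : LaurentSeries F} (hg : g ∈ Fil k F m) :
    LocRes.D F g ∈ Fil k F (m - 1) := by
  intro n hn
  rw [LocRes.D_coeff, hg (n + 1) (by omega), smul_zero]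

theorem Rc_continuity {n m : ℤ} {f g : LaurentSeries F} (hf : f ∈ Fil k F n) (hg : g ∈ Fil k F m)
    (hnm : 1 ≤ n + m) : Rc k f g = 0 := by
  unfold Rc
  have := mul_mem_Fil hf (D_mem_Fil hg)
  rw [this (-1) (by omega), map_zero]

theorem rho_continuity {n m : ℤ} {f g : LaurentSeries F} (hf : f ∈ Fil k F n) (hg : g ∈ Fil k F m)
    (hnm : 1 ≤ n + m) : rho k f g = 0 := by
  unfold rho
  rcases lt_or_ge n 0 with hn | hn
  · exact res_continuity isProj_trunc (M_mem_E f) (M_mem_E g) (M_commute f g) (Fil k F)
      (fun i j h => Fil_anti h) rfl hn hnm (M_maps_Fil hf) (M_maps_Fil hg)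
  · rcases lt_or_ge m 0 with hm | hm
    · rw [res_antisymm isProj_trunc (M_mem_E f) (M_mem_E g) (M_commute f g),
        res_continuity isProj_trunc (M_mem_E g) (M_mem_E f) (M_commute g f) (Fil k F)
        (fun i j h => Fil_anti h) rfl hm (by omega) (M_maps_Fil hg) (M_maps_Fil hf), neg_zero]
    · refine res_stable isProj_trunc ?_ ?_ (M_commute f g)
      · intro x hx
        exact Fil_anti (by omega) (M_maps_Fil hf 0 x hx)
      · intro x hx
        exact Fil_anti (by omega) (M_maps_Fil hg 0 x hx)

/-! ### Monomials -/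

theorem D_single (j : ℤ) (b : F) :
    LocRes.D F (HahnSeries.single j b : LaurentSeries F) = HahnSeries.single (j - 1) (j • b) := by
  ext n
  rw [LocRes.D_coeff]
  by_cases h : n = j - 1
  · subst h
    rw [HahnSeries.coeff_single_same]
    have : j - 1 + 1 = j := by ring
    rw [this, HahnSeries.coeff_single_same]
  · rw [HahnSeries.coeff_single_of_ne h, HahnSeries.coeff_single_of_ne (by omega), smul_zero]

theorem Rc_single (i j : ℤ) (a b : F) :
    Rc k (HahnSeries.single i a : LaurentSeries F) (HahnSeries.single j b) =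
      if i + j = 0 then (j : k) * Algebra.trace k F (a * b) else 0 := by
  unfold Rc
  rw [D_single, HahnSeries.single_mul_single]
  split_ifs with h
  · have : i + (j - 1) = -1 := by omega
    rw [this, HahnSeries.coeff_single_same, mul_smul_comm, map_zsmul, zsmul_eq_mul]
  · rw [HahnSeries.coeff_single_of_ne (by omega), map_zero]

theorem sum_coeff_single (s : Finset ℤ) (m : ℤ) (g : ℤ → F) [Decidable (m ∈ s)] :
    (∑ x ∈ s, (HahnSeries.single x (g x) : LaurentSeries F).coeff m) = if m ∈ s then g m else 0 := by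
  by_cases hm : m ∈ s
  · rw [if_pos hm, Finset.sum_eq_single_of_mem m hm]
    · exact HahnSeries.coeff_single_same _ _
    · intro b _ hb
      exact HahnSeries.coeff_single_of_ne (Ne.symm hb)
  · rw [if_neg hm]
    refine Finset.sum_eq_zero fun x hx => ?_
    exact HahnSeries.coeff_single_of_ne (by rintro rfl; exact hm hx)

theorem singleL_apply (n : ℤ) (x : F) :
    (HahnSeries.single.linearMap (R := k) (V := F) (Γ := ℤ) n) x = HahnSeries.single n x := rfl

theorem coeffL_apply (m : ℤ) (v : LaurentSeries F) :
    (HahnSeries.coeff.linearMap (R := k) (V := F) (Γ := ℤ) m) v = v.coeff m := rfl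

/-- The rank-one (over `F`) operator `v ↦ single n (c * v.coeff m)`. -/
noncomputable def Tm (c : F) (n m : ℤ) : Module.End k (LaurentSeries F) :=
  (HahnSeries.single.linearMap (R := k) (V := F) n) ∘ₗ
    ((Algebra.lmul k F c : F →ₗ[k] F) ∘ₗ (HahnSeries.coeff.linearMap (R := k) (V := F) m))

theorem Tm_apply (c : F) (n m : ℤ) (v : LaurentSeries F) :
    Tm (k := k) c n m v = HahnSeries.single n (c * v.coeff m) := rfl

theorem isFR_Tm (c : F) (n m : ℤ) : IsFR (Tm (k := k) c n m) := by
  unfold Tm
  refine IsFR.comp_right ?_ _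
  unfold IsFR
  infer_instance

theorem frTrace_Tm (c : F) (n m : ℤ) :
    frTrace (Tm (k := k) c n m) = if m = n then Algebra.trace k F c else 0 := by
  unfold Tm
  have hC : IsFR (HahnSeries.single.linearMap (R := k) (V := F) (Γ := ℤ) n) := by
    unfold IsFR; infer_instance
  rw [frTrace_comp_comm _ _ hC, frTrace_eq_trace]
  split_ifs with h
  · subst h
    rw [Algebra.trace_apply]
    congr 1
    ext x
    simp only [LinearMap.comp_apply, singleL_apply, coeffL_apply, HahnSeries.coeff_single_same]
  · have : ((Algebra.lmul k F c : F →ₗ[k] F) ∘ₗ (HahnSeries.coeff.linearMap (R := k) (V := F) m)) ∘ₗ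
        (HahnSeries.single.linearMap (R := k) (V := F) (Γ := ℤ) n) = 0 := by
      ext x
      simp only [LinearMap.comp_apply, singleL_apply, coeffL_apply,
        HahnSeries.coeff_single_of_ne h, map_zero, LinearMap.zero_apply]
    rw [this, map_zero]

theorem theta_single (i j : ℤ) (a b : F) :
    trunc k F * M k (HahnSeries.single i a) * M k (HahnSeries.single j b) -
      M k (HahnSeries.single j b) * (trunc k F * M k (HahnSeries.single i a)) =
    ∑ n ∈ Finset.Ico 0 j, Tm (a * b) n (n - i - j) - ∑ n ∈ Finset.Ico j 0, Tm (a * b) n (n - i - j) := by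
  refine LinearMap.ext fun v => ?_
  ext m
  simp only [LinearMap.sub_apply, Module.End.mul_apply, M_apply, HahnSeries.coeff_sub, trunc_coeff,
    HahnSeries.coeff_single_mul, LinearMap.coe_sum, Finset.sum_apply, HahnSeries.coeff_sum, Tm_apply]
  rw [sum_coeff_single, sum_coeff_single]
  simp only [Finset.mem_Ico]
  have e : m - j - i = m - i - j := by ring
  rw [e]
  by_cases h0 : 0 ≤ m <;> by_cases hj : j ≤ m
  · rw [if_pos h0, if_pos (by omega : 0 ≤ m - j), if_neg (by omega : ¬ (0 ≤ m ∧ m < j)),
      if_neg (by omega : ¬ (j ≤ m ∧ m < 0))]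
    ring
  · rw [if_pos h0, if_neg (by omega : ¬ 0 ≤ m - j), if_pos (by omega : (0 ≤ m ∧ m < j)),
      if_neg (by omega : ¬ (j ≤ m ∧ m < 0))]
    ring
  · rw [if_neg h0, if_pos (by omega : 0 ≤ m - j), if_neg (by omega : ¬ (0 ≤ m ∧ m < j)),
      if_pos (by omega : (j ≤ m ∧ m < 0))]
    ring
  · rw [if_neg h0, if_neg (by omega : ¬ 0 ≤ m - j), if_neg (by omega : ¬ (0 ≤ m ∧ m < j)),
      if_neg (by omega : ¬ (j ≤ m ∧ m < 0))]
    ring

theorem rho_single (i j : ℤ) (a b : F) :
    rho k (HahnSeries.single i a : LaurentSeries F) (HahnSeries.single j b) =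
      if i + j = 0 then (j : k) * Algebra.trace k F (a * b) else 0 := by
  unfold rho res
  rw [theta_single]
  obtain ⟨f1, t1⟩ := frTrace_sum (s := Finset.Ico 0 j) (T := fun n => Tm (k := k) (a * b) n (n - i - j))
    (fun n _ => isFR_Tm _ _ _)
  obtain ⟨f2, t2⟩ := frTrace_sum (s := Finset.Ico j 0) (T := fun n => Tm (k := k) (a * b) n (n - i - j))
    (fun n _ => isFR_Tm _ _ _)
  rw [Tr_eq_frTrace _ (f1.sub f2), frTrace_sub f1 f2, t1, t2]
  simp only [frTrace_Tm]
  split_ifs with h
  · have : ∀ n : ℤ, n - i - j = n := fun n => by omega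
    simp only [this, if_true, Finset.sum_const, Int.card_Ico, nsmul_eq_mul]
    rw [← sub_mul]
    congr 1
    have e := Int.toNat_sub_toNat_neg j
    have e2 : ((j - 0).toNat : k) - ((0 - j).toNat : k) = ((((j).toNat : ℤ) - ((-j).toNat : ℤ) : ℤ) : k) := by
      push_cast
      simp
    rw [e2, e]
  · have : ∀ n : ℤ, ¬ (n - i - j = n) := fun n => by omega
    simp only [this, if_false, Finset.sum_const_zero, sub_zero]

/-! ### The main identity -/

theorem rho_eq_Rc_aux (d : ℕ) : ∀ n m : ℤ, 1 ≤ n + m + d →
    ∀ f ∈ Fil k F n, ∀ g ∈ Fil k F m, rho k f g = Rc k f g := by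
  induction d with
  | zero =>
    intro n m h f hf g hg
    rw [rho_continuity hf hg (by simpa using h), Rc_continuity hf hg (by simpa using h)]
  | succ d ih =>
    intro n m h f hf g hg
    have hf' := sub_single_mem_Fil hf
    have hg' := sub_single_mem_Fil hg
    have ef : f = HahnSeries.single n (f.coeff n) + (f - HahnSeries.single n (f.coeff n)) := by abel
    have eg : g = HahnSeries.single m (g.coeff m) + (g - HahnSeries.single m (g.coeff m)) := by abel
    have h1 := ih (n + 1) m (by push_cast at h; omega) _ hf' g hg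
    have h2 := ih n (m + 1) (by push_cast at h; omega) _ (single_mem_Fil n (f.coeff n)) _ hg'
    have h3 : rho k (HahnSeries.single n (f.coeff n) : LaurentSeries F) (HahnSeries.single m (g.coeff m)) =
        Rc k (HahnSeries.single n (f.coeff n) : LaurentSeries F) (HahnSeries.single m (g.coeff m)) := by
      rw [rho_single, Rc_single]
    rw [ef, rho_add_left, Rc_add_left, h1]
    congr 1
    rw [eg, rho_add_right, Rc_add_right, h2, h3]

/-- **Tate's local theorem**: the abstract residue on Laurent series is the trace of the coefficient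
of `X⁻¹` in `f g'`. -/
theorem rho_eq_Rc (f g : LaurentSeries F) : rho k f g = Rc k f g := by
  obtain ⟨d, hd⟩ : ∃ d : ℕ, 1 ≤ f.order + g.order + d :=
    ⟨(1 - f.order - g.order).toNat, by omega⟩
  exact rho_eq_Rc_aux d _ _ hd f (mem_Fil_order f) g (mem_Fil_order g)

end Groth.Agent.Lib.Helper18.Tate
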