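import Groth.Agent.Lib.Helper18.Tate.LaurentRes

/-! # The local residue at a valuation with a Laurent expansion -/

set_option autoImplicit false

namespace Groth.Agent.Lib.Helper18.Tate

open LinearMap HahnSeries LaurentSeries WithZero

universe u v w

section Abstract

variable {k : Type u} [Field k] {V : Type v} [AddCommGroup V] [Module k V]
  {V' : Type w} [AddCommGroup V'] [Module k V']

/-- If `X` maps onto a finite-dimensional space with kernel inside `A` then `X ≲ A`. -/
theorem sub_of_fd_image {Q : Type*} [AddCommGroup Q] [Module k Q] (l : V →ₗ[k] Q)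
    {X A : Submodule k V} (hker : ∀ x ∈ X, l x = 0 → x ∈ A)
    (hfd : FiniteDimensional k (X.map l)) : Sub X A := by
  haveI := hfd
  set lX : X →ₗ[k] X.map l := l.restrict (fun x hx => Submodule.mem_map_of_mem hx) with hlX
  have hsurj : LinearMap.range lX = ⊤ := by
    rw [LinearMap.range_eq_top]
    rintro ⟨_, x, hx, rfl⟩
    exact ⟨⟨x, hx⟩, rfl⟩
  obtain ⟨s, hs⟩ := lX.exists_rightInverse_of_surjective hsurj
  refine ⟨LinearMap.range (X.subtype ∘ₗ s), inferInstance, ?_⟩
  intro x hx
  set y : V := (s (lX ⟨x, hx⟩) : V) with hy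
  have hyX : y ∈ X := (s (lX ⟨x, hx⟩)).2
  have hly : l y = l x := by
    have := congrArg (fun T => ((T (lX ⟨x, hx⟩) : X.map l) : Q)) hs
    simpa [lX] using this
  have : x = (x - y) + y := by abel
  rw [this]
  refine Submodule.add_mem_sup (hker _ (Submodule.sub_mem _ hx hyX) ?_) ⟨lX ⟨x, hx⟩, rfl⟩
  rw [map_sub, hly, sub_self]

/-- Pulling back `E`-membership along an injective intertwiner. -/
theorem E_of_comparison (ι : V →ₗ[k] V') {A : Submodule k V} {A' : Submodule k V'}
    (hA : A'.comap ι = A) {f : Module.End k V} {f' : Module.End k V'} (hf' : E A' f')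
    (hfι : ∀ x, f' (ι x) = ι (f x)) : E A f := by
  obtain ⟨W, hW, hle⟩ := hf'
  haveI := hW
  unfold E
  refine sub_of_fd_image (A'.mkQ ∘ₗ ι) ?_ ?_
  · intro x _ hx
    rw [← hA, Submodule.mem_comap]
    simpa using hx
  · refine Submodule.finiteDimensional_of_le (S₂ := W.map A'.mkQ) ?_
    rintro _ ⟨_, ⟨a, ha, rfl⟩, rfl⟩
    have haA' : ι a ∈ A' := by rw [← hA] at ha; exact ha
    have : f' (ι a) ∈ A' ⊔ W := hle ⟨ι a, haA', rfl⟩
    obtain ⟨a', ha', w, hw, e⟩ := Submodule.mem_sup.mp this
    refine ⟨w, hw, ?_⟩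
    rw [LinearMap.comp_apply, ← hfι, ← e, map_add]
    have : A'.mkQ a' = 0 := by simpa using ha'
    rw [this, zero_add]

end Abstract

variable {k : Type u} [Field k] {K : Type v} [Field K] [Algebra k K]
  {F : Type w} [Field F] [Algebra k F]

/-- The valuation ring of `w` as a `k`-subspace of `K`. -/
def OSub (w : Valuation K (WithZero (Multiplicative ℤ))) (hk : ∀ c : k, w (algebraMap k K c) ≤ 1) :
    Submodule k K where
  carrier := {x | w x ≤ 1}
  add_mem' {a b} ha hb := (w.map_add a b).trans (max_le ha hb)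
  zero_mem' := by simp
  smul_mem' c x hx := by
    show w (c • x) ≤ 1
    rw [Algebra.smul_def, map_mul]
    exact mul_le_one' (hk c) hx

variable (k) in
/-- Multiplication by `f` on `K`. -/
noncomputable def MK (f : K) : Module.End k K := Algebra.lmul k K f

@[simp] theorem MK_apply (f x : K) : MK k f x = f * x := rfl

theorem MK_commute (f g : K) : Commute (MK k f) (MK k g) := by
  unfold Commute SemiconjBy MK
  rw [← map_mul, ← map_mul, mul_comm]

/-- An expansion as a `k`-linear map. -/
noncomputable def phiL (φ : K →ₐ[k] LaurentSeries F) : K →ₗ[k] LaurentSeries F where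
  toFun := φ
  map_add' := map_add φ
  map_smul' c x := by
    rw [Algebra.smul_def, map_mul, LocRes.map_algebraMap, RingHom.id_apply, smul_eq_C_mul]

@[simp] theorem phiL_apply (φ : K →ₐ[k] LaurentSeries F) (x : K) : phiL φ x = φ x := rfl

theorem phiL_injective (φ : K →ₐ[k] LaurentSeries F) : Function.Injective (phiL φ) :=
  φ.toRingHom.injective

variable {w : Valuation K (WithZero (Multiplicative ℤ))} {φ : K →ₐ[k] LaurentSeries F}

theorem val_C_le_one (a : F) : Valued.v (HahnSeries.C a : LaurentSeries F) ≤ 1 := by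
  have : (1 : WithZero (Multiplicative ℤ)) = exp (-(0 : ℤ)) := by simp
  rw [this, LaurentSeries.valuation_le_iff_coeff_lt_eq_zero]
  intro n hn
  rw [HahnSeries.C_apply, HahnSeries.coeff_single_of_ne (ne_of_lt hn)]

theorem expansion_le_one (hφ : LocRes.IsExpansionAt w φ) (c : k) : w (algebraMap k K c) ≤ 1 := by
  rw [← hφ.1, LocRes.map_algebraMap]
  exact val_C_le_one _

theorem mem_Fil_phi_iff (hφ : LocRes.IsExpansionAt w φ) (x : K) (n : ℤ) :
    φ x ∈ Fil k F n ↔ w x ≤ exp (-n) := by
  rw [mem_Fil_iff_val, hφ.1]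

theorem comap_Fil_zero (hφ : LocRes.IsExpansionAt w φ) :
    (Fil k F 0).comap (phiL φ) = OSub w (expansion_le_one hφ) := by
  ext x
  rw [Submodule.mem_comap, phiL_apply, mem_Fil_phi_iff hφ]
  simp [OSub]

/-- Leading coefficient of a product. -/
theorem coeff_mul_lead {n m : ℤ} {f g : LaurentSeries F} (hf : f ∈ Fil k F n) (hg : g ∈ Fil k F m) :
    (f * g).coeff (n + m) = f.coeff n * g.coeff m := by
  have ef : f = HahnSeries.single n (f.coeff n) + (f - HahnSeries.single n (f.coeff n)) := by abel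
  have h1 : (f - HahnSeries.single n (f.coeff n)) * g ∈ Fil k F (m + (n + 1)) :=
    mul_mem_Fil (sub_single_mem_Fil hf) hg
  conv_lhs => rw [ef, add_mul, HahnSeries.coeff_add, h1 (n + m) (by omega), add_zero,
    HahnSeries.coeff_single_mul]
  congr 2
  ring

theorem exists_lead (hφ : LocRes.IsExpansionAt w φ) {y : K} {n : ℤ} (hy : w y = exp (-n)) :
    φ y ∈ Fil k F n ∧ (φ y).coeff n ≠ 0 := by
  have h1 : φ y ∈ Fil k F n := (mem_Fil_phi_iff hφ y n).mpr hy.le
  refine ⟨h1, fun h0 => ?_⟩
  have h2 : φ y ∈ Fil k F (n + 1) := by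
    intro m hm
    rcases lt_or_eq_of_le (Int.lt_add_one_iff.mp hm) with h | h
    · exact h1 m h
    · rw [h, h0]
  rw [mem_Fil_phi_iff hφ, hy, exp_le_exp] at h2
  omega

/-- Density of the image of an expansion modulo power series. -/
theorem exists_sub_mem_Fil_zero (hφ : LocRes.IsExpansionAt w φ) (d : ℕ) :
    ∀ v ∈ Fil k F (-(d : ℤ)), ∃ x : K, v - φ x ∈ Fil k F 0 := by
  obtain ⟨t, ht⟩ := hφ.2.2
  have ht0 : t ≠ 0 := by
    rintro rfl
    rw [map_zero] at ht
    exact exp_ne_zero ht.symm
  induction d with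
  | zero =>
    intro v hv
    exact ⟨0, by simpa using hv⟩
  | succ d ih =>
    intro v hv
    set n : ℤ := -((d + 1 : ℕ) : ℤ) with hn
    have hy : w (t ^ n) = exp (-n) := by
      rw [map_zpow₀, ht, ← exp_zsmul]
      congr 1
      simp
    obtain ⟨hl1, hl2⟩ := exists_lead (k := k) hφ hy
    obtain ⟨z, hz1, hz2⟩ := hφ.2.1 (v.coeff n / (φ (t ^ n)).coeff n)
    have hz : φ z ∈ Fil k F 0 := (mem_Fil_phi_iff hφ z 0).mpr (by simpa using hz1)
    have hprod := coeff_mul_lead (k := k) hz hl1
    rw [zero_add, hz2, div_mul_cancel₀ _ hl2] at hprod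
    have hmem : φ (z * t ^ n) ∈ Fil k F n := by
      have := mul_mem_Fil (k := k) hz hl1
      rwa [add_zero, ← map_mul] at this
    have hv' : v - φ (z * t ^ n) ∈ Fil k F (-(d : ℤ)) := by
      intro m hm
      rw [HahnSeries.coeff_sub]
      rcases lt_or_eq_of_le (show m ≤ n by omega) with h | h
      · rw [hv m h, hmem m h, sub_zero]
      · rw [h, map_mul, hprod, sub_self]
    obtain ⟨x', hx'⟩ := ih _ hv'
    refine ⟨z * t ^ n + x', ?_⟩
    have : v - φ (z * t ^ n + x') = v - φ (z * t ^ n) - φ x' := by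
      rw [map_add]; abel
    rw [this]
    exact hx'

theorem range_phiL_sup (hφ : LocRes.IsExpansionAt w φ) :
    LinearMap.range (phiL φ) ⊔ Fil k F 0 = ⊤ := by
  rw [eq_top_iff]
  intro v _
  have hv : v ∈ Fil k F (-((-v.order).toNat : ℤ)) := Fil_anti (by omega) (mem_Fil_order v)
  obtain ⟨x, hx⟩ := exists_sub_mem_Fil_zero hφ _ v hv
  have : v = phiL φ x + (v - φ x) := by rw [phiL_apply]; abel
  rw [this]
  exact Submodule.add_mem_sup (LinearMap.mem_range_self _ x) hx

variable [FiniteDimensional k F]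

theorem MK_mem_E (hφ : LocRes.IsExpansionAt w φ) (f : K) :
    E (OSub w (expansion_le_one hφ)) (MK k f) :=
  E_of_comparison (phiL φ) (comap_Fil_zero hφ) (M_mem_E (φ f)) (fun x => by
    simp only [M_apply, phiL_apply, MK_apply, map_mul])

/-- **The local residue theorem**: the abstract residue of `f dg` relative to the valuation ring is
the local residue read through any expansion. -/
theorem res_local (hφ : LocRes.IsExpansionAt w φ) {π : Module.End k K}
    (hπ : IsProj (OSub w (expansion_le_one hφ)) π) (f g : K) :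
    res π (MK k f) (MK k g) = LocRes.locRes φ f g := by
  have h := res_comparison (phiL φ) (phiL_injective φ) (comap_Fil_zero hφ) (range_phiL_sup hφ)
    hπ isProj_trunc (MK_mem_E hφ f) (MK_mem_E hφ g) (MK_commute f g) (M_mem_E (φ f)) (M_mem_E (φ g))
    (M_commute (φ f) (φ g)) (fun x => by simp only [M_apply, phiL_apply, MK_apply, map_mul])
    (fun x => by simp only [M_apply, phiL_apply, MK_apply, map_mul])
  rw [← h]
  exact rho_eq_Rc (φ f) (φ g)

end Groth.Agent.Lib.Helper18.Tate
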