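import Groth.Agent.Lib.Helper18.Tate.Res

/-! # Further properties of the abstract residue -/

set_option autoImplicit false

namespace Groth.Agent.Lib.Helper18.Tate

open LinearMap

universe u v w

variable {k : Type u} [Field k] {V : Type v} [AddCommGroup V] [Module k V]

variable {A : Submodule k V} {π : Module.End k V}

theorem rep_E0 (hπ : IsProj A π) {f g f₁ : Module.End k V} (hf : E A f) (hg : E A g)
    (hfg : Commute f g) (h1 : E1 A f₁) (h2 : E2 A (f - f₁)) :
    E0 A (f₁ * g - g * f₁) := by
  have hδ : E0 A (f₁ - π * f) := by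
    refine ⟨h1.sub ((proj_E1 hπ).mul_right f), ?_⟩
    have e : f₁ - π * f = (1 - π) * f - (f - f₁) := by noncomm_ring
    rw [e]
    exact ((proj_E2_one_sub hπ).mul_right hf).sub h2
  have e : f₁ * g - g * f₁ = (π * f * g - g * (π * f)) + ((f₁ - π * f) * g - g * (f₁ - π * f)) := by
    noncomm_ring
  rw [e]
  exact (res_E0 hπ hf hg hfg).add ((hδ.mul_right hg).sub (hδ.mul_left hg))

theorem res_add_left (hπ : IsProj A π) {f f' g : Module.End k V} (hf : E A f) (hf' : E A f')
    (hg : E A g) (hfg : Commute f g) (hfg' : Commute f' g) :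
    res π (f + f') g = res π f g + res π f' g := by
  unfold res
  rw [← Tr_add hπ (res_E0 hπ hf hg hfg) (res_E0 hπ hf' hg hfg')]
  congr 1
  noncomm_ring

theorem res_smul_left (hπ : IsProj A π) {f g : Module.End k V} (hf : E A f)
    (hg : E A g) (hfg : Commute f g) (c : k) :
    res π (c • f) g = c * res π f g := by
  unfold res
  rw [← Tr_smul hπ (res_E0 hπ hf hg hfg)]
  congr 1
  simp only [mul_smul_comm, smul_mul_assoc, smul_sub]

theorem res_add_right (hπ : IsProj A π) {f g g' : Module.End k V} (hf : E A f) (hg : E A g)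
    (hg' : E A g') (hfg : Commute f g) (hfg' : Commute f g') :
    res π f (g + g') = res π f g + res π f g' := by
  unfold res
  rw [← Tr_add hπ (res_E0 hπ hf hg hfg) (res_E0 hπ hf hg' hfg')]
  congr 1
  noncomm_ring

theorem res_smul_right (hπ : IsProj A π) {f g : Module.End k V} (hf : E A f)
    (hg : E A g) (hfg : Commute f g) (c : k) :
    res π f (c • g) = c * res π f g := by
  unfold res
  rw [← Tr_smul hπ (res_E0 hπ hf hg hfg)]
  congr 1
  simp only [mul_smul_comm, smul_mul_assoc, smul_sub]

theorem res_zero_left : res π (0 : Module.End k V) (0 : Module.End k V) = 0 := by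
  unfold res
  simp [Tr_zero]

/-- `res (f d(gh)) = res (fg dh) + res (fh dg)`. -/
theorem res_deriv (hπ : IsProj A π) {f g h : Module.End k V} (hf : E A f) (hg : E A g)
    (hh : E A h) (hfg : Commute f g) (hfh : Commute f h) (hgh : Commute g h) :
    res π f (g * h) = res π (f * g) h + res π (f * h) g := by
  have c1 : Commute (f * g) h := hfh.mul_left hgh
  have c2 : Commute (f * h) g := hfg.mul_left hgh.symm
  have c3 : Commute f (g * h) := hfg.mul_right hfh
  have r1 : E1 A (h * (π * f)) := ((proj_E1 hπ).mul_right f).mul_left hh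
  have r2 : E2 A (f * h - h * (π * f)) := by
    have e : f * h - h * (π * f) = h * ((1 - π) * f) := by
      have : f * h = h * f := hfh
      rw [this]; noncomm_ring
    rw [e]
    exact ((proj_E2_one_sub hπ).mul_right hf).mul_left h
  have key := res_eq_of_rep hπ (hf.mul hh) hg c2 r1 r2
  have k0 := rep_E0 hπ (hf.mul hh) hg c2 r1 r2
  rw [← key]
  unfold res
  rw [← Tr_add hπ (res_E0 hπ (hf.mul hg) hh c1) k0]
  congr 1
  noncomm_ring

theorem res_one_left (hπ : IsProj A π) {g : Module.End k V} (hg : E A g) :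
    res π 1 g = 0 := by
  set X := (1 - π) * g * π with hX
  have hXfr : IsFR X := E2.isFR_mul_proj hπ ((proj_E2_one_sub hπ).mul_right hg)
  have hX0 : frTrace X = 0 := by
    have e1 : X = X * π := by
      rw [hX, mul_assoc ((1 - π) * g), proj_mul_self hπ]
    have e2 : π * X = 0 := by
      rw [hX, ← mul_assoc, ← mul_assoc, proj_mul_one_sub hπ, zero_mul, zero_mul]
    rw [e1, frTrace_mul_comm X π hXfr, e2, frTrace_zero]
  unfold res Tr
  have e1 : (π * 1 * g - g * (π * 1)) * π = -X := by
    rw [hX]
    have := proj_mul_self hπ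
    calc (π * 1 * g - g * (π * 1)) * π = π * g * π - g * (π * π) := by noncomm_ring
      _ = π * g * π - g * π := by rw [this]
      _ = -((1 - π) * g * π) := by noncomm_ring
  have e2 : (1 - π) * (π * 1 * g - g * (π * 1)) = -X := by
    rw [hX]
    have := proj_one_sub_mul hπ
    calc (1 - π) * (π * 1 * g - g * (π * 1)) = ((1 - π) * π) * g - (1 - π) * g * π := by noncomm_ring
      _ = -((1 - π) * g * π) := by rw [this]; noncomm_ring
  rw [e1, e2, frTrace_neg hXfr, hX0]
  ring

theorem res_antisymm (hπ : IsProj A π) {f g : Module.End k V} (hf : E A f) (hg : E A g)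
    (hfg : Commute f g) : res π f g = -res π g f := by
  have h := res_deriv hπ E.one hf hg (Commute.one_left f) (Commute.one_left g) hfg
  rw [one_mul, one_mul, res_one_left hπ (hf.mul hg)] at h
  linear_combination -h

/-- Continuity: if `f` lowers a filtration by at most `-n`, `g` raises it by `m` and `n + m ≥ 1`,
`n < 0`, then the residue vanishes. -/
theorem res_continuity (hπ : IsProj A π) {f g : Module.End k V} (hf : E A f) (hg : E A g)
    (hfg : Commute f g) (F : ℤ → Submodule k V) (hF : ∀ i j, i ≤ j → F j ≤ F i) (hF0 : F 0 = A)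
    {n m : ℤ} (hn : n < 0) (hnm : 1 ≤ n + m) (hfF : ∀ j, ∀ x ∈ F j, f x ∈ F (j + n))
    (hgF : ∀ j, ∀ x ∈ F j, g x ∈ F (j + m)) : res π f g = 0 := by
  set θ := π * f * g - g * (π * f) with hθ
  have h0 : E0 A θ := res_E0 hπ hf hg hfg
  have hcomm : ∀ x, f (g x) = g (f x) := fun x => by
    have := congrArg (fun T : Module.End k V => T x) hfg.eq
    simpa using this
  have hA : ∀ j, 0 ≤ j → F j ≤ A := fun j hj => hF0 ▸ hF 0 j hj
  -- `(1 - π) θ = 0`
  have e2 : (1 - π) * θ = 0 := by
    ext x
    have h1 : (1 - π) (π (f (g x))) = 0 := proj_one_sub_apply_mem hπ (hπ.map_mem _)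
    have h2 : (1 - π) (g (π (f x))) = 0 := by
      refine proj_one_sub_apply_mem hπ ?_
      have : π (f x) ∈ F 0 := hF0 ▸ hπ.map_mem _
      have := hgF 0 _ this
      exact hA _ (by omega) this
    simp only [hθ, Module.End.mul_apply, LinearMap.sub_apply, LinearMap.zero_apply, map_sub] at h1 h2 ⊢
    rw [h1, h2, sub_zero]
  -- behaviour of θ on the filtration
  have hθF : ∀ j, 0 ≤ j → ∀ a ∈ F j, θ a ∈ F (j + 1) ∧ (-n ≤ j → θ a = 0) := by
    intro j hj a ha
    have hfga : f (g a) ∈ F (j + 1) := by
      have := hfF _ _ (hgF _ _ ha)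
      exact hF _ _ (by omega) this
    have h1 : π (f (g a)) = f (g a) := hπ.map_id _ (hA _ (by omega) hfga)
    have hθa : θ a = f (g a) - g (π (f a)) := by
      simp only [hθ, Module.End.mul_apply, LinearMap.sub_apply, h1]
    constructor
    · rw [hθa]
      refine Submodule.sub_mem _ hfga ?_
      by_cases hjn : -n ≤ j
      · have : f a ∈ A := hA _ (by omega) (hfF _ _ ha)
        rw [hπ.map_id _ this, ← hcomm]
        exact hfga
      · have : π (f a) ∈ F 0 := hF0 ▸ hπ.map_mem _
        exact hF _ _ (by omega) (hgF 0 _ this)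
    · intro hjn
      have : f a ∈ A := hA _ (by omega) (hfF _ _ ha)
      rw [hθa, hπ.map_id _ this, hcomm, sub_self]
  set T := θ * π with hT
  have hTfr : IsFR T := E2.isFR_mul_proj hπ h0.2
  have hTpow : ∀ r : ℕ, ∀ x, (T ^ (r + 1)) x ∈ F (r + 1) ∧ (-n ≤ (r : ℤ) → (T ^ (r + 1)) x = 0) := by
    intro r
    induction r with
    | zero =>
      intro x
      have hx : π x ∈ F 0 := hF0 ▸ hπ.map_mem x
      have := hθF 0 le_rfl _ hx
      simp only [zero_add, pow_one, hT, Module.End.mul_apply, Nat.cast_zero]
      exact this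
    | succ r ih =>
      intro x
      obtain ⟨h1, -⟩ := ih x
      have hmem : (T ^ (r + 1)) x ∈ A := hA _ (by positivity) h1
      have e : (T ^ (r + 1 + 1)) x = θ ((T ^ (r + 1)) x) := by
        rw [pow_succ', Module.End.mul_apply, hT, Module.End.mul_apply, hπ.map_id _ hmem]
      rw [e]
      have := hθF (r + 1) (by positivity) _ h1
      push_cast
      exact this
  have hnil : T ^ ((-n).toNat + 1) = 0 := by
    ext x
    have := (hTpow (-n).toNat x).2 (by omega)
    rw [this, LinearMap.zero_apply]
  unfold res Tr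
  rw [← hθ, e2, frTrace_zero, add_zero, ← hT]
  exact frTrace_eq_zero_of_pow hTfr hnil

/-- On finite-rank elements the trace `Tr` is the finite-rank trace. -/
theorem Tr_eq_frTrace (π : Module.End k V) {θ : Module.End k V} (hfr : IsFR θ) :
    Tr π θ = frTrace θ := by
  unfold Tr
  rw [← frTrace_mul_comm θ (1 - π) hfr, ← frTrace_add (hfr.mul_right π) (hfr.mul_right (1 - π))]
  congr 1
  noncomm_ring

theorem frTrace_eq_trace [FiniteDimensional k V] (T : Module.End k V) :
    frTrace T = LinearMap.trace k V T := by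
  haveI : FiniteDimensional k (⊤ : Submodule k V) := inferInstance
  rw [frTrace_eq_trace_restrict (U := ⊤) le_top]
  have := LinearMap.trace_conj' T (Submodule.topEquiv (R := k) (M := V)).symm
  rw [← this]
  congr 1

end Groth.Agent.Lib.Helper18.Tate
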