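import Groth.Agent.Lib.Helper18.Tate.Pi
import Groth.Agent.Lib.Helper18.Tate.Res2

/-! # Residues of block-matrix operators on finite powers: the trace formula, abstract form -/

set_option autoImplicit false

namespace Groth.Agent.Lib.Helper18.Tate

open LinearMap

universe u v w

variable {k : Type u} [Field k] {V : Type v} [AddCommGroup V] [Module k V]
  {ι : Type w} [Fintype ι] [DecidableEq ι]

/-- The block-matrix operator on `ι → V` with blocks `T i j`. -/
def matMap (T : ι → ι → Module.End k V) : Module.End k (ι → V) :=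
  LinearMap.pi fun i => ∑ j, T i j ∘ₗ LinearMap.proj j

omit [DecidableEq ι] in
@[simp] theorem matMap_apply (T : ι → ι → Module.End k V) (x : ι → V) (i : ι) :
    matMap T x i = ∑ j, T i j (x j) := by
  simp [matMap]

omit [DecidableEq ι] in
theorem matMap_mul_piMap (T : ι → ι → Module.End k V) (g : ι → Module.End k V) :
    matMap T * piMap g = matMap fun i j => T i j * g j := by
  refine LinearMap.ext fun x => funext fun i => ?_
  simp [Module.End.mul_apply]

omit [DecidableEq ι] in
theorem piMap_mul_matMap (T : ι → ι → Module.End k V) (g : ι → Module.End k V) :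
    piMap g * matMap T = matMap fun i j => g i * T i j := by
  refine LinearMap.ext fun x => funext fun i => ?_
  simp [Module.End.mul_apply]

omit [DecidableEq ι] in
theorem matMap_sub (S T : ι → ι → Module.End k V) :
    matMap (fun i j => S i j - T i j) = matMap S - matMap T := by
  refine LinearMap.ext fun x => funext fun i => ?_
  simp [Finset.sum_sub_distrib]

theorem matMap_eq_sum (T : ι → ι → Module.End k V) :
    matMap T = ∑ i, ∑ j, (LinearMap.single k (fun _ : ι => V) i ∘ₗ T i j) ∘ₗ
      (LinearMap.proj j : (ι → V) →ₗ[k] V) := by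
  refine LinearMap.ext fun x => funext fun l => ?_
  simp only [matMap_apply, LinearMap.coe_sum, Finset.sum_apply, LinearMap.comp_apply,
    LinearMap.proj_apply, LinearMap.single_apply]
  symm
  rw [Finset.sum_eq_single l]
  · simp
  · intro i _ hil
    refine Finset.sum_eq_zero fun j _ => ?_
    simp [Pi.single_apply, hil.symm]
  · intro h; exact absurd (Finset.mem_univ l) h

theorem frTrace_matMap {T : ι → ι → Module.End k V} (hT : ∀ i j, IsFR (T i j)) :
    IsFR (matMap T) ∧ frTrace (matMap T) = ∑ i, frTrace (T i i) := by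
  have h1 : ∀ i, ∀ j ∈ (Finset.univ : Finset ι),
      IsFR ((LinearMap.single k (fun _ : ι => V) i ∘ₗ T i j) ∘ₗ
        (LinearMap.proj j : (ι → V) →ₗ[k] V)) :=
    fun i j _ => ((hT i j).comp_left _).comp_right _
  have h2 : ∀ i ∈ (Finset.univ : Finset ι),
      IsFR (∑ j, (LinearMap.single k (fun _ : ι => V) i ∘ₗ T i j) ∘ₗ
        (LinearMap.proj j : (ι → V) →ₗ[k] V)) := fun i _ => (frTrace_sum (h1 i)).1
  obtain ⟨h3, h4⟩ := frTrace_sum h2
  rw [matMap_eq_sum]
  refine ⟨h3, ?_⟩
  rw [h4]
  refine Finset.sum_congr rfl fun i _ => ?_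
  rw [(frTrace_sum (h1 i)).2, Finset.sum_eq_single i]
  · rw [frTrace_comp_comm _ _ ((hT i i).comp_left _)]
    congr 1
    ext x
    simp
  · intro j _ hji
    rw [frTrace_comp_comm _ _ ((hT i j).comp_left _)]
    have : (LinearMap.proj j : (ι → V) →ₗ[k] V) ∘ₗ
        (LinearMap.single k (fun _ : ι => V) i ∘ₗ T i j) = 0 := by
      ext x
      simp [Pi.single_apply, hji]
    rw [this, frTrace_zero]
  · intro h; exact absurd (Finset.mem_univ i) h

omit [DecidableEq ι] in
theorem Sub.iSup_fintype {X : ι → Submodule k V} {A : Submodule k V} (h : ∀ j, Sub (X j) A) :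
    Sub (⨆ j, X j) A := by
  choose W hW hle using h
  haveI := hW
  refine ⟨⨆ j, W j, inferInstance, ?_⟩
  refine iSup_le fun j => (hle j).trans (sup_le_sup_left (le_iSup W j) A)

omit [DecidableEq ι] in
theorem E.matMap {A : Submodule k V} {T : ι → ι → Module.End k V} (h : ∀ i j, E A (T i j)) :
    E (Submodule.pi Set.univ fun _ : ι => A) (matMap T) := by
  unfold E
  have h1 : ∀ i : ι, Sub (⨆ j, A.map (T i j)) A := fun i => Sub.iSup_fintype fun j => h i j
  refine Sub.mono_left ?_ (Sub.pi h1)
  rintro _ ⟨x, hx, rfl⟩ i _
  rw [matMap_apply]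
  refine Submodule.sum_mem _ fun j _ => ?_
  exact Submodule.mem_iSup_of_mem j ⟨x j, hx j trivial, rfl⟩

/-- The residue of a block-matrix operator against a scalar-diagonal one is the sum of the
residues of the diagonal blocks. -/
theorem res_matMap {A : Submodule k V} {π : Module.End k V} (hπ : IsProj A π)
    {T : ι → ι → Module.End k V} {g : Module.End k V} (hT : ∀ i j, E A (T i j)) (hg : E A g)
    (hTg : ∀ i j, Commute (T i j) g) :
    res (piMap fun _ : ι => π) (matMap T) (piMap fun _ : ι => g) = ∑ i, res π (T i i) g := by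
  have h0 : ∀ i j, E0 A (π * T i j * g - g * (π * T i j)) :=
    fun i j => res_E0 hπ (hT i j) hg (hTg i j)
  have e0 : (piMap fun _ : ι => π) * matMap T * (piMap fun _ : ι => g) -
      (piMap fun _ : ι => g) * ((piMap fun _ : ι => π) * matMap T) =
      matMap fun i j => π * T i j * g - g * (π * T i j) := by
    rw [piMap_mul_matMap, matMap_mul_piMap, piMap_mul_matMap, ← matMap_sub]
  have e1 : (matMap fun i j => π * T i j * g - g * (π * T i j)) * (piMap fun _ : ι => π) =
      matMap fun i j => (π * T i j * g - g * (π * T i j)) * π := by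
    rw [matMap_mul_piMap]
  have e2 : (1 - piMap fun _ : ι => π) * (matMap fun i j => π * T i j * g - g * (π * T i j)) =
      matMap fun i j => (1 - π) * (π * T i j * g - g * (π * T i j)) := by
    rw [← piMap_one, ← piMap_sub, piMap_mul_matMap]
  unfold res Tr
  rw [e0, e1, e2, (frTrace_matMap fun i j => E2.isFR_mul_proj hπ (h0 i j).2).2,
    (frTrace_matMap fun i j => E1.isFR_one_sub_mul hπ (h0 i j).1).2, ← Finset.sum_add_distrib]

/-- Additivity of the residue in the first argument over a finite sum. -/
theorem res_sum_left {A : Submodule k V} {π : Module.End k V} (hπ : IsProj A π)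
    {κ : Type*} (s : Finset κ) {f : κ → Module.End k V} {g : Module.End k V}
    (hf : ∀ i, E A (f i)) (hg : E A g) (hfg : ∀ i, Commute (f i) g) :
    res π (∑ i ∈ s, f i) g = ∑ i ∈ s, res π (f i) g := by
  classical
  induction s using Finset.induction_on with
  | empty =>
    simp only [Finset.sum_empty]
    unfold res
    simp [Tr_zero]
  | insert a s ha ih =>
    have hE : E A (∑ i ∈ s, f i) := by
      clear ih ha
      induction s using Finset.induction_on with
      | empty =>
        simp only [Finset.sum_empty]
        exact E.of_stable fun x _ => by simp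
      | insert b s hb ih' =>
        rw [Finset.sum_insert hb]
        exact (hf b).add ih'
    have hC : Commute (∑ i ∈ s, f i) g := Commute.sum_left _ _ _ fun i _ => hfg i
    rw [Finset.sum_insert ha, Finset.sum_insert ha, res_add_left hπ (hf a) hE hg (hfg a) hC, ih]

end Groth.Agent.Lib.Helper18.Tate
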