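import Groth.Agent.Lib.Helper18.Tate.Compare

/-! # Residues on finite products -/

set_option autoImplicit false

namespace Groth.Agent.Lib.Helper18.Tate

open LinearMap

universe u v w

variable {k : Type u} [Field k] {V : Type v} [AddCommGroup V] [Module k V]
  {ι : Type w} [Fintype ι] [DecidableEq ι]

/-- The diagonal operator on `ι → V` with components `T i`. -/
def piMap (T : ι → Module.End k V) : Module.End k (ι → V) :=
  LinearMap.pi fun i => T i ∘ₗ LinearMap.proj i

omit [Fintype ι] [DecidableEq ι] in
@[simp] theorem piMap_apply (T : ι → Module.End k V) (x : ι → V) (i : ι) :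
    piMap T x i = T i (x i) := rfl

omit [Fintype ι] [DecidableEq ι] in
theorem piMap_mul (S T : ι → Module.End k V) : piMap (fun i => S i * T i) = piMap S * piMap T := by
  ext x i; rfl

omit [Fintype ι] [DecidableEq ι] in
theorem piMap_sub (S T : ι → Module.End k V) : piMap (fun i => S i - T i) = piMap S - piMap T := by
  ext x i; rfl

omit [Fintype ι] [DecidableEq ι] in
theorem piMap_one : piMap (fun _ : ι => (1 : Module.End k V)) = 1 := by
  ext x i; rfl

omit [Fintype ι] [DecidableEq ι] in
theorem frTrace_sum {s : Finset ι} {T : ι → Module.End k V} (hT : ∀ i ∈ s, IsFR (T i)) :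
    IsFR (∑ i ∈ s, T i) ∧ frTrace (∑ i ∈ s, T i) = ∑ i ∈ s, frTrace (T i) := by
  classical
  induction s using Finset.induction_on with
  | empty => exact ⟨by simpa using isFR_zero, by simpa using frTrace_zero⟩
  | insert a s ha ih =>
    obtain ⟨h1, h2⟩ := ih (fun i hi => hT i (Finset.mem_insert_of_mem hi))
    have ha' := hT a (Finset.mem_insert_self a s)
    rw [Finset.sum_insert ha, Finset.sum_insert ha]
    exact ⟨ha'.add h1, by rw [frTrace_add ha' h1, h2]⟩

theorem piMap_eq_sum (T : ι → Module.End k V) :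
    piMap T = ∑ i, (LinearMap.single k (fun _ : ι => V) i ∘ₗ T i) ∘ₗ
      (LinearMap.proj i : (ι → V) →ₗ[k] V) := by
  refine LinearMap.ext fun x => funext fun j => ?_
  simp only [piMap_apply, LinearMap.coe_sum, Finset.sum_apply, LinearMap.comp_apply,
    LinearMap.proj_apply, LinearMap.single_apply]
  rw [Finset.sum_eq_single j]
  · simp
  · intro i _ hij
    simp [Pi.single_apply, hij.symm]
  · intro h; exact absurd (Finset.mem_univ j) h

theorem frTrace_piMap {T : ι → Module.End k V} (hT : ∀ i, IsFR (T i)) :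
    IsFR (piMap T) ∧ frTrace (piMap T) = ∑ i, frTrace (T i) := by
  have h1 : ∀ i ∈ (Finset.univ : Finset ι),
      IsFR ((LinearMap.single k (fun _ : ι => V) i ∘ₗ T i) ∘ₗ
        (LinearMap.proj i : (ι → V) →ₗ[k] V)) :=
    fun i _ => ((hT i).comp_left _).comp_right _
  obtain ⟨h2, h3⟩ := frTrace_sum h1
  rw [piMap_eq_sum]
  refine ⟨h2, ?_⟩
  rw [h3]
  refine Finset.sum_congr rfl fun i _ => ?_
  rw [frTrace_comp_comm _ _ ((hT i).comp_left _)]
  congr 1
  ext x
  simp

/-- The residue on a finite product is the sum of the residues of the factors. -/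
theorem res_pi {A : ι → Submodule k V} {π f g : ι → Module.End k V}
    (hπ : ∀ i, IsProj (A i) (π i)) (hf : ∀ i, E (A i) (f i)) (hg : ∀ i, E (A i) (g i))
    (hfg : ∀ i, Commute (f i) (g i)) :
    res (piMap π) (piMap f) (piMap g) = ∑ i, res (π i) (f i) (g i) := by
  have h0 : ∀ i, E0 (A i) (π i * f i * g i - g i * (π i * f i)) :=
    fun i => res_E0 (hπ i) (hf i) (hg i) (hfg i)
  have e1 : (piMap π * piMap f * piMap g - piMap g * (piMap π * piMap f)) * piMap π =
      piMap fun i => (π i * f i * g i - g i * (π i * f i)) * π i := by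
    ext x i; rfl
  have e2 : (1 - piMap π) * (piMap π * piMap f * piMap g - piMap g * (piMap π * piMap f)) =
      piMap fun i => (1 - π i) * (π i * f i * g i - g i * (π i * f i)) := by
    ext x i; rfl
  unfold res Tr
  rw [e1, e2, (frTrace_piMap fun i => E2.isFR_mul_proj (hπ i) (h0 i).2).2,
    (frTrace_piMap fun i => E1.isFR_one_sub_mul (hπ i) (h0 i).1).2, ← Finset.sum_add_distrib]

omit [Fintype ι] [DecidableEq ι] in
theorem isProj_piMap {A : ι → Submodule k V} {π : ι → Module.End k V}
    (hπ : ∀ i, IsProj (A i) (π i)) : IsProj (Submodule.pi Set.univ A) (piMap π) := by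
  constructor
  · intro x i _
    exact (hπ i).map_mem (x i)
  · intro x hx
    ext i
    exact (hπ i).map_id (x i) (hx i trivial)

omit [DecidableEq ι] in
theorem finiteDimensional_pi {W : ι → Submodule k V} (hW : ∀ i, FiniteDimensional k (W i)) :
    FiniteDimensional k (Submodule.pi Set.univ W) := by
  haveI := hW
  let j : Submodule.pi Set.univ W →ₗ[k] (∀ i, W i) :=
    { toFun := fun v i => ⟨v.1 i, v.2 i trivial⟩
      map_add' := fun _ _ => rfl
      map_smul' := fun _ _ => rfl }
  refine FiniteDimensional.of_injective j ?_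
  intro x y hxy
  apply Subtype.ext
  funext i
  have := congrArg (fun f : (∀ i, W i) => ((f i : W i) : V)) hxy
  exact this

omit [DecidableEq ι] in
theorem Sub.pi {X A : ι → Submodule k V} (h : ∀ i, Sub (X i) (A i)) :
    Sub (Submodule.pi Set.univ X) (Submodule.pi Set.univ A) := by
  choose W hW hle using h
  refine ⟨Submodule.pi Set.univ W, finiteDimensional_pi hW, ?_⟩
  intro v hv
  have : ∀ i, ∃ a ∈ A i, ∃ w ∈ W i, a + w = v i :=
    fun i => Submodule.mem_sup.mp (hle i (hv i trivial))
  choose a ha w hw e using this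
  have hv' : v = a + w := by funext i; exact (e i).symm
  rw [hv']
  exact Submodule.add_mem_sup (fun i _ => ha i) (fun i _ => hw i)

omit [DecidableEq ι] in
theorem E.piMap {A : ι → Submodule k V} {T : ι → Module.End k V} (h : ∀ i, E (A i) (T i)) :
    E (Submodule.pi Set.univ A) (piMap T) := by
  unfold E
  refine Sub.mono_left ?_ (Sub.pi h)
  rintro _ ⟨x, hx, rfl⟩ i _
  exact ⟨x i, hx i trivial, rfl⟩

end Groth.Agent.Lib.Helper18.Tate
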