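import Groth.Agent.Lib.Helper18.Tate.Classes
import Mathlib.Tactic.NoncommRing

/-! # The abstract residue of Tate -/

set_option autoImplicit false

namespace Groth.Agent.Lib.Helper18.Tate

open LinearMap

universe u v w

variable {k : Type u} [Field k] {V : Type v} [AddCommGroup V] [Module k V]

theorem frTrace_mul_comm (X Y : Module.End k V) (hX : IsFR X) :
    frTrace (X * Y) = frTrace (Y * X) :=
  frTrace_comp_comm X Y hX

theorem IsFR.mul_right {X : Module.End k V} (hX : IsFR X) (Y : Module.End k V) : IsFR (X * Y) :=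
  hX.comp_right Y

theorem IsFR.mul_left {X : Module.End k V} (hX : IsFR X) (Y : Module.End k V) : IsFR (Y * X) :=
  hX.comp_left Y

variable {A : Submodule k V} {π : Module.End k V}

/-- `tr (δ c) = tr (c δ)` for `δ, c ∈ E0`. -/
theorem E0_mul_comm (hπ : IsProj A π) {δ c : Module.End k V} (hδ : E0 A δ) (hc : E0 A c) :
    frTrace (δ * c) = frTrace (c * δ) := by
  have h1 : IsFR (δ * π) := E2.isFR_mul_proj hπ hδ.2
  have h2 : IsFR ((1 - π) * c) := E1.isFR_one_sub_mul hπ hc.1
  have h3 : IsFR (c * δ) := E0.isFR_mul hc.2 hδ.1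
  have e1 : δ * c = (δ * π) * c + δ * ((1 - π) * c) := by noncomm_ring
  have e2 : c * δ = c * (δ * π) + (c * δ) * (1 - π) := by noncomm_ring
  have e3 : ((1 - π) * c) * δ = (1 - π) * (c * δ) := by noncomm_ring
  rw [e1, frTrace_add (h1.mul_right c) (h2.mul_left δ), frTrace_mul_comm (δ * π) c h1,
    ← frTrace_mul_comm ((1 - π) * c) δ h2, e3]
  conv_rhs => rw [e2, frTrace_add (h1.mul_left c) (h3.mul_right _), frTrace_mul_comm (c * δ) (1 - π) h3]

/-- The trace on `E0`, computed through a projection onto `A`. -/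
noncomputable def Tr (π θ : Module.End k V) : k := frTrace (θ * π) + frTrace ((1 - π) * θ)

theorem Tr_add (hπ : IsProj A π) {S T : Module.End k V} (hS : E0 A S) (hT : E0 A T) :
    Tr π (S + T) = Tr π S + Tr π T := by
  unfold Tr
  rw [add_mul, mul_add, frTrace_add (E2.isFR_mul_proj hπ hS.2) (E2.isFR_mul_proj hπ hT.2),
    frTrace_add (E1.isFR_one_sub_mul hπ hS.1) (E1.isFR_one_sub_mul hπ hT.1)]
  ring

theorem Tr_smul (hπ : IsProj A π) {T : Module.End k V} (hT : E0 A T) (c : k) :
    Tr π (c • T) = c * Tr π T := by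
  unfold Tr
  rw [smul_mul_assoc, mul_smul_comm, frTrace_smul (E2.isFR_mul_proj hπ hT.2),
    frTrace_smul (E1.isFR_one_sub_mul hπ hT.1)]
  ring

theorem Tr_neg (hπ : IsProj A π) {T : Module.End k V} (hT : E0 A T) :
    Tr π (-T) = -Tr π T := by
  have := Tr_smul hπ hT (-1)
  simpa using this

theorem Tr_sub (hπ : IsProj A π) {S T : Module.End k V} (hS : E0 A S) (hT : E0 A T) :
    Tr π (S - T) = Tr π S - Tr π T := by
  rw [sub_eq_add_neg, Tr_add hπ hS hT.neg, Tr_neg hπ hT, sub_eq_add_neg]

theorem Tr_zero : Tr π (0 : Module.End k V) = 0 := by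
  unfold Tr
  rw [zero_mul, mul_zero, frTrace_zero, add_zero]

/-- `Tr (δ g) = Tr (g δ)` for `δ ∈ E0`, `g ∈ E`. -/
theorem Tr_mul_comm (hπ : IsProj A π) {δ g : Module.End k V} (hδ : E0 A δ) (hg : E A g) :
    Tr π (δ * g) = Tr π (g * δ) := by
  have hc : E0 A (g * π - π * g) := E.comm_proj hπ hg
  set c := g * π - π * g with hcdef
  have hδg : E0 A (δ * g) := hδ.mul_right hg
  have hgδ : E0 A (g * δ) := hδ.mul_left hg
  have f1 : IsFR (δ * π) := E2.isFR_mul_proj hπ hδ.2
  have f2 : IsFR ((1 - π) * δ) := E1.isFR_one_sub_mul hπ hδ.1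
  have f3 : IsFR (δ * c) := E0.isFR_mul hδ.2 hc.1
  have f4 : IsFR (c * δ) := E0.isFR_mul hc.2 hδ.1
  have e1 : δ * g * π = δ * π * g + δ * c := by rw [hcdef]; noncomm_ring
  have e2 : (1 - π) * (g * δ) = g * ((1 - π) * δ) + c * δ := by rw [hcdef]; noncomm_ring
  have e3 : (1 - π) * (δ * g) = ((1 - π) * δ) * g := by noncomm_ring
  have e4 : g * δ * π = g * (δ * π) := by noncomm_ring
  unfold Tr
  rw [e1, frTrace_add (f1.mul_right g) f3, e2, frTrace_add (f2.mul_left g) f4, e3, e4,
    frTrace_mul_comm (δ * π) g f1, frTrace_mul_comm ((1 - π) * δ) g f2, E0_mul_comm hπ hδ hc]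
  ring

/-- Independence of the projection within the commensurability class. -/
theorem Tr_indep {A' : Submodule k V} {π' : Module.End k V} (hπ : IsProj A π)
    (hπ' : IsProj A' π') (hc : Comm A A') {θ : Module.End k V} (hθ : E0 A θ) :
    Tr π θ = Tr π' θ := by
  have hθ' : E0 A' θ := hθ.congr hc
  have hN : E0 A (π - π') := by
    constructor
    · exact (proj_E1 hπ).sub ((proj_E1 hπ').congr hc.symm)
    · have h1 : E2 A (1 - π') := (proj_E2_one_sub hπ').congr hc.symm
      unfold E2 at *
      haveI := h1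
      refine Submodule.finiteDimensional_of_le (S₂ := A.map (1 - π')) ?_
      rintro _ ⟨x, hx, rfl⟩
      refine ⟨x, hx, ?_⟩
      simp only [LinearMap.sub_apply, Module.End.one_apply, hπ.map_id x hx]
  have e1 : θ * π = θ * π' + θ * (π - π') := by noncomm_ring
  have e2 : (1 - π') * θ = (1 - π) * θ + (π - π') * θ := by noncomm_ring
  unfold Tr
  rw [e1, frTrace_add (E2.isFR_mul_proj hπ' hθ'.2) (E0.isFR_mul hθ.2 hN.1), e2,
    frTrace_add (E1.isFR_one_sub_mul hπ hθ.1) (E0.isFR_mul hN.2 hθ.1), E0_mul_comm hπ hθ hN]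
  ring

/-- The abstract residue of `f dg` relative to `A`, computed through `π`. -/
noncomputable def res (π f g : Module.End k V) : k := Tr π (π * f * g - g * (π * f))

theorem res_E0 (hπ : IsProj A π) {f g : Module.End k V} (hf : E A f) (hg : E A g)
    (hfg : Commute f g) : E0 A (π * f * g - g * (π * f)) := by
  have e : π * f * g - g * (π * f) = -((g * π - π * g) * f) := by
    have : f * g = g * f := hfg
    calc π * f * g - g * (π * f) = π * (f * g) - g * π * f := by noncomm_ring
      _ = π * (g * f) - g * π * f := by rw [this]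
      _ = -((g * π - π * g) * f) := by noncomm_ring
  rw [e]
  exact ((E.comm_proj hπ hg).mul_right hf).neg

/-- The residue can be computed with any representative `f₁ ∈ E1` of `f` modulo `E2`. -/
theorem res_eq_of_rep (hπ : IsProj A π) {f g f₁ : Module.End k V} (hf : E A f) (hg : E A g)
    (hfg : Commute f g) (h1 : E1 A f₁) (h2 : E2 A (f - f₁)) :
    Tr π (f₁ * g - g * f₁) = res π f g := by
  have hδ : E0 A (f₁ - π * f) := by
    refine ⟨h1.sub ((proj_E1 hπ).mul_right f), ?_⟩
    have e : f₁ - π * f = (1 - π) * f - (f - f₁) := by noncomm_ring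
    rw [e]
    exact ((proj_E2_one_sub hπ).mul_right hf).sub h2
  have e : f₁ * g - g * f₁ = (π * f * g - g * (π * f)) + ((f₁ - π * f) * g - g * (f₁ - π * f)) := by
    noncomm_ring
  rw [e, Tr_add hπ (res_E0 hπ hf hg hfg) ((hδ.mul_right hg).sub (hδ.mul_left hg)),
    Tr_sub hπ (hδ.mul_right hg) (hδ.mul_left hg), Tr_mul_comm hπ hδ hg, sub_self, add_zero]
  rfl

theorem res_indep {A' : Submodule k V} {π' : Module.End k V} (hπ : IsProj A π)
    (hπ' : IsProj A' π') (hc : Comm A A') {f g : Module.End k V} (hf : E A f) (hg : E A g)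
    (hfg : Commute f g) : res π' f g = res π f g := by
  have h0 : E0 A' (π' * f * g - g * (π' * f)) := res_E0 hπ' (hf.congr hc) (hg.congr hc) hfg
  unfold res
  rw [Tr_indep hπ' hπ hc.symm h0]
  have := res_eq_of_rep hπ hf hg hfg (f₁ := π' * f)
    (((proj_E1 hπ').congr hc.symm).mul_right f) (by
      have e : f - π' * f = (1 - π') * f := by noncomm_ring
      rw [e]
      exact ((proj_E2_one_sub hπ').congr hc.symm).mul_right hf)
  exact this

/-- The residue vanishes when `A` is stable under `f` and `g`. -/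
theorem res_stable (hπ : IsProj A π) {f g : Module.End k V} (hf : ∀ x ∈ A, f x ∈ A)
    (hg : ∀ x ∈ A, g x ∈ A) (hfg : Commute f g) : res π f g = 0 := by
  have e1 : (π * f * g - g * (π * f)) * π = 0 := by
    ext x
    have hx : π x ∈ A := hπ.map_mem x
    have h1 : π (f (g (π x))) = f (g (π x)) := hπ.map_id _ (hf _ (hg _ hx))
    have h2 : π (f (π x)) = f (π x) := hπ.map_id _ (hf _ hx)
    have h3 : f (g (π x)) = g (f (π x)) := by
      have := congrArg (fun T : Module.End k V => T (π x)) hfg.eq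
      simpa using this
    simp only [Module.End.mul_apply, LinearMap.sub_apply, LinearMap.zero_apply]
    rw [h1, h2, h3, sub_self]
  have e2 : (1 - π) * (π * f * g - g * (π * f)) = 0 := by
    ext x
    have h1 : (1 - π) (π (f (g x))) = 0 := proj_one_sub_apply_mem hπ (hπ.map_mem _)
    have h2 : (1 - π) (g (π (f x))) = 0 := proj_one_sub_apply_mem hπ (hg _ (hπ.map_mem _))
    simp only [Module.End.mul_apply, LinearMap.sub_apply, LinearMap.zero_apply, map_sub] at h1 h2 ⊢
    rw [h1, h2, sub_zero]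
  unfold res Tr
  rw [e1, e2, frTrace_zero, add_zero]

/-- Complement trick. -/
theorem res_compl (hπ : IsProj A π) {f g : Module.End k V} (hf : E A f) (hg : E A g)
    (hf' : E (LinearMap.ker π) f) (hg' : E (LinearMap.ker π) g) (hfg : Commute f g) :
    res π f g + res (1 - π) f g = 0 := by
  have hπ' : IsProj (LinearMap.ker π) (1 - π) := proj_one_sub hπ
  set θ := π * f * g - g * (π * f) with hθ
  have h0 : E0 A θ := res_E0 hπ hf hg hfg
  have h0' : E0 (LinearMap.ker π) ((1 - π) * f * g - g * ((1 - π) * f)) := res_E0 hπ' hf' hg' hfg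
  have e : (1 - π) * f * g - g * ((1 - π) * f) = -θ := by
    have : f * g = g * f := hfg
    calc (1 - π) * f * g - g * ((1 - π) * f) = (f * g - g * f) - θ := by rw [hθ]; noncomm_ring
      _ = -θ := by rw [this, sub_self, zero_sub]
  rw [e] at h0'
  have h0'' : E0 (LinearMap.ker π) θ := by
    have := h0'.neg
    rwa [neg_neg] at this
  have hfr : IsFR θ := Sub.fd_of_proj hπ h0.1 h0''.1
  have t1 : Tr π θ = frTrace θ := by
    unfold Tr
    rw [← frTrace_mul_comm θ (1 - π) hfr, ← frTrace_add (hfr.mul_right π) (hfr.mul_right (1 - π))]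
    congr 1
    noncomm_ring
  have t2 : Tr (1 - π) (-θ) = -frTrace θ := by
    unfold Tr
    have e1 : (1 - (1 - π)) * -θ = π * -θ := by noncomm_ring
    rw [e1, ← frTrace_mul_comm (-θ) π hfr.neg,
      ← frTrace_add (hfr.neg.mul_right (1 - π)) (hfr.neg.mul_right π), ← frTrace_neg hfr]
    congr 1
    noncomm_ring
  unfold res
  rw [e, ← hθ, t1, t2, add_neg_cancel]

end Groth.Agent.Lib.Helper18.Tate
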