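import Groth.Agent.Lib.Helper18.Tate.Mat
import Groth.Agent.Lib.Helper18.Tate.GlobalFF
import Groth.Agent.Lib.Helper18.FF.IntClosFin4
import Groth.Agent.Lib.Helper24.FFExt.Over

/-! # The residue of a trace is the sum of the residues above (function fields) -/

set_option autoImplicit false
set_option linter.style.haveILetI false

namespace Groth.Agent.Lib.Helper18.Tate

open LinearMap HahnSeries LaurentSeries WithZero FunFld Groth.Agent.Lib.Helper18.FF
  Groth.Agent.Lib.Helper24.FFExt

universe u v w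

variable {k : Type u} {K K' : Type v} [Field k] [Field K] [Field K'] [Algebra k K] [Algebra K K']
  [Algebra k K'] [IsScalarTower k K K'] [FiniteDimensional K K']

omit [IsScalarTower k K K'] [FiniteDimensional K K'] [Algebra K K'] in
theorem commute_piMap_const {J : Type*} (u v : K') :
    Commute (piMap fun _ : J => MK k u) (piMap fun _ : J => MK k v) := by
  unfold Commute SemiconjBy
  rw [← piMap_mul, ← piMap_mul]
  congr 1
  funext _
  exact (MK_commute u v).eq

set_option maxHeartbeats 1000000 in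
theorem locRes_trace_eq_sum (hK : IsFunctionField k K) (P : Place k K)
    (F : Type w) [Field F] [Algebra k F] [FiniteDimensional k F]
    (φ : K →ₐ[k] LaurentSeries F) (hφ : LocRes.IsExpansionAt P.1 φ)
    (Qs : Finset (Place k K')) (hQs : ∀ Q, Q ∈ Qs ↔ IsOver Q P)
    (F' : Place k K' → Type w) [∀ Q, Field (F' Q)] [∀ Q, Algebra k (F' Q)]
    [∀ Q, FiniteDimensional k (F' Q)]
    (ψ : ∀ Q, K' →ₐ[k] LaurentSeries (F' Q)) (hψ : ∀ Q ∈ Qs, LocRes.IsExpansionAt Q.1 (ψ Q))
    (y : K') (x : K) :
    LocRes.locRes φ (Algebra.trace K K' y) x =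
      ∑ Q ∈ Qs, LocRes.locRes (ψ Q) y (algebraMap K K' x) := by
  classical
  obtain ⟨Q₀, hQ₀⟩ := exists_place_over (K' := K') hK P
  have hQ₀s : Q₀ ∈ Qs := (hQs Q₀).2 hQ₀
  set AQ : {Q // Q ∈ Qs} → Submodule k K' :=
    fun Q => OSub Q.1.1 (expansion_le_one (hψ Q.1 Q.2)) with hAQ
  set AP : Submodule k K := OSub P.1 (expansion_le_one hφ) with hAP
  choose πQ hπQ using fun Q : {Q // Q ∈ Qs} => exists_isProj (AQ Q)
  obtain ⟨πP, hπP⟩ := exists_isProj AP
  set x' : K' := algebraMap K K' x with hx'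
  have hEy : ∀ Q : {Q // Q ∈ Qs}, E (AQ Q) (MK k y) := fun Q => MK_mem_E (hψ Q.1 Q.2) y
  have hEx : ∀ Q : {Q // Q ∈ Qs}, E (AQ Q) (MK k x') := fun Q => MK_mem_E (hψ Q.1 Q.2) x'
  -- the sum of the local residues above is a residue on the product
  have hpi := res_pi hπQ hEy hEx (fun _ => MK_commute y x')
  have hloc : ∀ Q : {Q // Q ∈ Qs}, res (πQ Q) (MK k y) (MK k x') = LocRes.locRes (ψ Q.1) y x' :=
    fun Q => res_local (hψ Q.1 Q.2) (hπQ Q) y x'
  -- comparison along the diagonal embedding
  let dS : K' →ₗ[k] ({Q // Q ∈ Qs} → K') := LinearMap.pi fun _ => LinearMap.id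
  have hdS : ∀ z Q, dS z Q = z := fun _ _ => rfl
  set O' : Submodule k K' := (Submodule.pi Set.univ AQ).comap dS with hO'
  have hO'mem : ∀ z, z ∈ O' ↔ ∀ Q ∈ Qs, Q.1 z ≤ 1 := by
    intro z
    constructor
    · intro h Q hQ
      exact h ⟨Q, hQ⟩ trivial
    · intro h Q _
      exact h Q.1 Q.2
  have hdSinj : Function.Injective dS := fun a b h => congrFun h ⟨Q₀, hQ₀s⟩
  have hsup : LinearMap.range dS ⊔ Submodule.pi Set.univ AQ = ⊤ := by
    rw [eq_top_iff]
    intro α _
    obtain ⟨z, hz⟩ := exists_approx Qs (fun Q => if h : Q ∈ Qs then α ⟨Q, h⟩ else 0)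
      (fun _ => 1) (fun _ _ => one_ne_zero)
    have e : α = dS z + (α - dS z) := by abel
    rw [e]
    refine Submodule.add_mem_sup ⟨z, rfl⟩ ?_
    intro Q _
    show Q.1.1 ((α - dS z) Q) ≤ 1
    have h1 := hz Q.1 Q.2
    rw [dif_pos Q.2] at h1
    rw [Pi.sub_apply, hdS, ← Valuation.map_neg, neg_sub]
    exact h1.le
  obtain ⟨πO, hπO⟩ := exists_isProj O'
  have hEy' : E O' (MK k y) := E_of_comparison dS rfl (E.piMap hEy) (fun z => rfl)
  have hEx' : E O' (MK k x') := E_of_comparison dS rfl (E.piMap hEx) (fun z => rfl)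
  have hC := res_comparison dS hdSinj (rfl : (Submodule.pi Set.univ AQ).comap dS = O') hsup hπO
    (isProj_piMap hπQ) hEy' hEx' (MK_commute y x') (E.piMap hEy) (E.piMap hEx)
    (commute_piMap_const y x') (fun z => rfl) (fun z => rfl)
  -- an integral basis
  obtain ⟨ι, _, b, hbli, hbcard, hbint, hbrepr⟩ :=
    IntClosFin.exists_integral_basis (K' := K') hK P
  haveI : Nonempty ι := by
    rw [← Fintype.card_pos_iff, hbcard]
    exact Module.finrank_pos
  let B : Module.Basis ι K K' := basisOfLinearIndependentOfCardEqFinrank hbli hbcard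
  have hB : ⇑B = b := coe_basisOfLinearIndependentOfCardEqFinrank hbli hbcard
  let Φ : (ι → K) →ₗ[k] K' := (B.equivFun.symm.toLinearMap).restrictScalars k
  have hΦ : ∀ a, Φ a = ∑ i, algebraMap K K' (a i) * b i := by
    intro a
    show B.equivFun.symm a = _
    rw [Module.Basis.equivFun_symm_apply, hB]
    exact Finset.sum_congr rfl fun i _ => Algebra.smul_def _ _
  have hΦinj : Function.Injective Φ := B.equivFun.symm.injective
  have hΦsurj : Function.Surjective Φ := B.equivFun.symm.surjective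
  have hΦrepr : ∀ a, B.equivFun (Φ a) = a := fun a => B.equivFun.apply_symm_apply a
  have hcomap : O'.comap Φ = Submodule.pi Set.univ fun _ : ι => AP := by
    ext a
    rw [Submodule.mem_comap, hO'mem]
    constructor
    · intro h
      obtain ⟨c, hc, hzc⟩ := hbrepr (Φ a) (fun Q hQ => h Q ((hQs Q).2 hQ))
      have hac : a = c := hΦinj (hzc.trans (hΦ c).symm)
      intro i _
      rw [hac]
      exact hc i
    · intro h Q hQ
      rw [hΦ]
      refine Valuation.map_sum_le _ fun i _ => ?_
      rw [map_mul]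
      exact mul_le_one' ((isOver_le_one_iff ((hQs Q).1 hQ) _).2 (h i trivial))
        (hbint i Q ((hQs Q).1 hQ))
  have hsup2 : LinearMap.range Φ ⊔ O' = ⊤ := by
    rw [LinearMap.range_eq_top.2 hΦsurj, top_sup_eq]
  -- the matrix of multiplication by `y`
  set M : Matrix ι ι K := Algebra.leftMulMatrix B y with hM
  have hT : ∀ i j, E AP (MK k (M i j)) := fun i j => MK_mem_E hφ _
  have hg : E AP (MK k x) := MK_mem_E hφ x
  have hTg : ∀ i j, Commute (MK k (M i j)) (MK k x) := fun i j => MK_commute _ _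
  have hcompat_y : ∀ a, MK k y (Φ a) = Φ (matMap (fun i j => MK k (M i j)) a) := by
    intro a
    apply B.equivFun.injective
    rw [hΦrepr]
    have h1 := Algebra.leftMulMatrix_mulVec_repr B y (Φ a)
    have h2 : (B.repr (Φ a) : ι → K) = a := hΦrepr a
    funext i
    have h3 := congrFun h1 i
    rw [h2] at h3
    show B.repr (y * Φ a) i = _
    rw [← h3, matMap_apply]
    rfl
  have hcompat_x : ∀ a, MK k x' (Φ a) = Φ (piMap (fun _ : ι => MK k x) a) := by
    intro a
    rw [hΦ, hΦ, MK_apply, Finset.mul_sum]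
    refine Finset.sum_congr rfl fun i _ => ?_
    rw [piMap_apply, MK_apply, map_mul, mul_assoc]
  have hcomm_mat : Commute (matMap fun i j => MK k (M i j)) (piMap fun _ : ι => MK k x) := by
    unfold Commute SemiconjBy
    rw [matMap_mul_piMap, piMap_mul_matMap]
    congr 1
    funext i j
    exact (hTg i j).eq
  have hD := res_comparison Φ hΦinj hcomap hsup2 (isProj_piMap fun _ : ι => hπP) hπO
    (E.matMap hT) (E.piMap fun _ : ι => hg) hcomm_mat hEy' hEx' (MK_commute y x')
    hcompat_y hcompat_x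
  have hmat := res_matMap (ι := ι) hπP hT hg hTg
  have hsum := res_sum_left hπP (Finset.univ : Finset ι) (f := fun i => MK k (M i i))
    (fun i => hT i i) hg (fun i => hTg i i)
  have htr : (∑ i, MK k (M i i)) = MK k (Algebra.trace K K' y) := by
    rw [Algebra.trace_eq_matrix_trace B y, Matrix.trace]
    unfold MK
    rw [map_sum]
    rfl
  -- assemble
  rw [← res_local hφ hπP (Algebra.trace K K' y) x, ← htr, hsum, ← hmat, ← hD, ← hC, hpi,
    ← Finset.sum_coe_sort Qs (fun Q => LocRes.locRes (ψ Q) y x')]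
  exact Finset.sum_congr rfl fun Q _ => hloc Q

end Groth.Agent.Lib.Helper18.Tate
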