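import Groth.Agent.Lib.Helper18.Tate.Mat
import Groth.Agent.Lib.Helper18.Tate.Local

/-! # The abstract trace formula for residues along a finite extension with an adapted basis -/

set_option autoImplicit false
set_option linter.style.haveILetI false

namespace Groth.Agent.Lib.Helper18.Tate

open LinearMap

universe u v v' w

variable {k : Type u} [Field k] {K₁ : Type v} {E₁ : Type v'} [Field K₁] [Field E₁] [Algebra k K₁]
  [Algebra K₁ E₁] [Algebra k E₁] [IsScalarTower k K₁ E₁]

set_option maxHeartbeats 1000000 in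
theorem res_trace_of_basis {ι : Type w} [Fintype ι] [DecidableEq ι] (B : Module.Basis ι K₁ E₁)
    (A : Submodule k K₁) (A' : Submodule k E₁)
    (hA' : ∀ z : E₁, z ∈ A' ↔ ∀ i, B.repr z i ∈ A)
    {π : Module.End k K₁} (hπ : IsProj A π) {π' : Module.End k E₁} (hπ' : IsProj A' π')
    (hE : ∀ f : K₁, E A (MK k f)) (y : E₁) (x : K₁) (hEy : E A' (MK k y))
    (hEx : E A' (MK k (algebraMap K₁ E₁ x))) :
    res π' (MK k y) (MK k (algebraMap K₁ E₁ x)) =
      res π (MK k (Algebra.trace K₁ E₁ y)) (MK k x) := by
  classical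
  set x' : E₁ := algebraMap K₁ E₁ x with hx'
  let Φ : (ι → K₁) →ₗ[k] E₁ := (B.equivFun.symm.toLinearMap).restrictScalars k
  have hΦ : ∀ a, Φ a = ∑ i, algebraMap K₁ E₁ (a i) * B i := by
    intro a
    show B.equivFun.symm a = _
    rw [Module.Basis.equivFun_symm_apply]
    exact Finset.sum_congr rfl fun i _ => Algebra.smul_def _ _
  have hΦinj : Function.Injective Φ := B.equivFun.symm.injective
  have hΦsurj : Function.Surjective Φ := B.equivFun.symm.surjective
  have hΦrepr : ∀ a, B.equivFun (Φ a) = a := fun a => B.equivFun.apply_symm_apply a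
  have hcomap : A'.comap Φ = Submodule.pi Set.univ fun _ : ι => A := by
    ext a
    rw [Submodule.mem_comap, hA']
    have h2 : ∀ i, B.repr (Φ a) i = a i := fun i => congrFun (hΦrepr a) i
    constructor
    · intro h i _
      rw [← h2 i]
      exact h i
    · intro h i
      rw [h2 i]
      exact h i trivial
  have hsup2 : LinearMap.range Φ ⊔ A' = ⊤ := by
    rw [LinearMap.range_eq_top.2 hΦsurj, top_sup_eq]
  set M : Matrix ι ι K₁ := Algebra.leftMulMatrix B y with hM
  have hT : ∀ i j, E A (MK k (M i j)) := fun i j => hE _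
  have hg : E A (MK k x) := hE x
  have hTg : ∀ i j, Commute (MK k (M i j)) (MK k x) := fun i j => MK_commute _ _
  have hcompat_y : ∀ a, MK k y (Φ a) = Φ (matMap (fun i j => MK k (M i j)) a) := by
    intro a
    apply B.equivFun.injective
    rw [hΦrepr]
    have h1 := Algebra.leftMulMatrix_mulVec_repr B y (Φ a)
    have h2 : (B.repr (Φ a) : ι → K₁) = a := hΦrepr a
    funext i
    have h3 := congrFun h1 i
    rw [h2] at h3
    show B.repr (y * Φ a) i = _
    rw [← h3, matMap_apply]
    rfl
  have hcompat_x : ∀ a, MK k x' (Φ a) = Φ (piMap (fun _ : ι => MK k x) a) := by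
    intro a
    rw [hΦ, hΦ, MK_apply, Finset.mul_sum]
    refine Finset.sum_congr rfl fun i _ => ?_
    rw [piMap_apply, MK_apply, map_mul, mul_assoc]
  have hcomm_mat : Commute (matMap fun i j => MK k (M i j)) (piMap fun _ : ι => MK k x) := by
    unfold Commute SemiconjBy
    rw [matMap_mul_piMap, piMap_mul_matMap]
    congr 1
    funext i j
    exact (hTg i j).eq
  have hD := res_comparison Φ hΦinj hcomap hsup2 (isProj_piMap fun _ : ι => hπ) hπ'
    (E.matMap hT) (E.piMap fun _ : ι => hg) hcomm_mat hEy hEx (MK_commute y x')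
    hcompat_y hcompat_x
  have hmat := res_matMap (ι := ι) hπ hT hg hTg
  have hsum := res_sum_left hπ (Finset.univ : Finset ι) (f := fun i => MK k (M i i))
    (fun i => hT i i) hg (fun i => hTg i i)
  have htr : (∑ i, MK k (M i i)) = MK k (Algebra.trace K₁ E₁ y) := by
    rw [Algebra.trace_eq_matrix_trace B y, Matrix.trace]
    unfold MK
    rw [map_sum]
    rfl
  rw [← htr, hsum, ← hmat, ← hD]

end Groth.Agent.Lib.Helper18.Tate
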