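import Groth.Agent.Lib.Helper18.Tate.GlobalFF

/-! # The Weil differential attached to a differential `u dv` by the residue pairing -/

set_option autoImplicit false
set_option linter.style.haveILetI false

namespace Groth.Agent.Lib.Helper18.Tate

open LinearMap HahnSeries LaurentSeries WithZero FunFld LocRes Groth.Agent.Lib.Helper18.FF

universe u v w

variable {k : Type u} [Field k] {K : Type v} [Field K] [Algebra k K]

section LocalLemmas

variable {F : Type w} [Field F] [Algebra k F]
  {w : Valuation K (WithZero (Multiplicative ℤ))} {φ : K →ₐ[k] LaurentSeries F}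

theorem vDiff_mul_left (hφ : IsExpansionAt w φ) (x u v : K) :
    vDiff φ (x * u) v = w x * vDiff φ u v := by
  unfold vDiff
  rw [map_mul φ x u, mul_assoc, Valuation.map_mul, hφ.1]

theorem locRes_eq_zero_of_vDiff_le_one {u v : K} (h : vDiff φ u v ≤ 1) : locRes φ u v = 0 := by
  unfold locRes resExp
  unfold vDiff at h
  have h1 : (1 : WithZero (Multiplicative ℤ)) = exp (-(0 : ℤ)) := by simp
  rw [h1, LaurentSeries.valuation_le_iff_coeff_lt_eq_zero] at h
  rw [res_apply, h (-1) (by omega), map_zero]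

theorem locRes_add_left (u u' v : K) : locRes φ (u + u') v = locRes φ u v + locRes φ u' v := by
  unfold locRes resExp
  rw [map_add, add_mul, map_add, map_add]

theorem locRes_smul_left (c : k) (u v : K) : locRes φ (c • u) v = c * locRes φ u v := by
  unfold locRes resExp
  have h1 : φ (c • u) = c • φ u := (phiL φ).map_smul c u
  rw [h1, smul_mul_assoc', res_apply, res_apply, HahnSeries.coeff_smul, map_smul, smul_eq_mul]

theorem locRes_zero_left (v : K) : locRes φ 0 v = 0 := by
  unfold locRes resExp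
  rw [map_zero, zero_mul, map_zero, map_zero]

theorem vDiff_eq_exp_neg_ordDiff {u v : K} (h : vDiff φ u v ≠ 0) :
    vDiff φ u v = exp (-ordDiff φ u v) := by
  unfold ordDiff
  rw [neg_neg, exp_log h]

/-- Nondegeneracy of the local residue pairing. -/
theorem exists_locRes_ne_zero (hφ : IsExpansionAt w φ) (htr : ∃ b : F, Algebra.trace k F b ≠ 0)
    {u v : K} {n : ℤ} (h : vDiff φ u v = exp (-n)) :
    ∃ x : K, w x ≤ exp (n + 1) ∧ locRes φ (x * u) v ≠ 0 := by
  obtain ⟨t, ht⟩ := hφ.2.2
  obtain ⟨b, hb⟩ := htr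
  set y : K := t ^ (-(n + 1)) with hy
  have hwy : w y = exp (n + 1) := by
    rw [hy, map_zpow₀, ht, ← exp_zsmul]
    congr 1
    simp
  set hh : LaurentSeries F := φ (y * u) * D F (φ v) with hhdef
  have hval : Valued.v hh = exp (-(-1 : ℤ)) := by
    have := vDiff_mul_left hφ y u v
    unfold vDiff at this h
    rw [hhdef, this, hwy, h, ← exp_add]
    congr 1
    ring
  have hmem : hh ∈ Fil k F (-1) := mem_Fil_iff_val.mpr hval.le
  have hc0 : hh.coeff (-1) ≠ 0 := by
    intro h0
    have h2 : hh ∈ Fil k F (-1 + 1) := by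
      intro m hm
      rcases lt_or_eq_of_le (Int.lt_add_one_iff.mp hm) with h' | h'
      · exact hmem m h'
      · rw [h', h0]
    rw [mem_Fil_iff_val, hval, exp_le_exp] at h2
    omega
  obtain ⟨z, hz1, hz2⟩ := hφ.2.1 (b / hh.coeff (-1))
  have hz : φ z ∈ Fil k F 0 := (mem_Fil_phi_iff hφ z 0).mpr (by simpa using hz1)
  have hprod := coeff_mul_lead (k := k) hz hmem
  rw [zero_add, hz2, div_mul_cancel₀ _ hc0] at hprod
  refine ⟨z * y, ?_, ?_⟩
  · rw [map_mul, hwy]
    exact mul_le_of_le_one_left' hz1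
  · unfold locRes resExp
    have e : φ (z * y * u) * D F (φ v) = φ z * hh := by
      rw [hhdef, mul_assoc z y u, map_mul φ z, mul_assoc]
    rw [e, res_apply, hprod]
    exact hb

end LocalLemmas

variable (F : Place k K → Type w) [∀ P, Field (F P)] [∀ P, Algebra k (F P)]
  [∀ P, FiniteDimensional k (F P)]
  (φ : ∀ P, K →ₐ[k] LaurentSeries (F P))

theorem finite_support_locRes_adele (hφ : ∀ P, IsExpansionAt P.1 (φ P)) (u v : K)
    (hne : ∀ P, vDiff (φ P) u v ≠ 0)
    (hfin : (Function.support fun P => ordDiff (φ P) u v).Finite)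
    {a : Place k K → K} (ha : a ∈ adele k K) :
    (Function.support fun P => locRes (φ P) (a P * u) v).Finite := by
  rw [mem_adele] at ha
  refine (ha.union hfin).subset ?_
  intro P hP
  by_contra hnot
  rw [Set.mem_union, not_or] at hnot
  obtain ⟨h1, h2⟩ := hnot
  simp only [Set.mem_setOf_eq, not_not] at h1
  have h2' : ordDiff (φ P) u v = 0 := by simpa using h2
  apply hP
  refine locRes_eq_zero_of_vDiff_le_one ?_
  rw [vDiff_mul_left (hφ P), vDiff_eq_exp_neg_ordDiff (hne P), h2', neg_zero, exp_zero, mul_one]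
  exact h1

/-- The linear form `a ↦ ∑_P Res_P(a_P u dv)` on the adele space. -/
noncomputable def weilOf (hφ : ∀ P, IsExpansionAt P.1 (φ P)) (u v : K)
    (hne : ∀ P, vDiff (φ P) u v ≠ 0)
    (hfin : (Function.support fun P => ordDiff (φ P) u v).Finite) :
    Module.Dual k (adele k K) where
  toFun a := ∑ᶠ P, locRes (φ P) ((a : Place k K → K) P * u) v
  map_add' a b := by
    rw [← finsum_add_distrib (finite_support_locRes_adele F φ hφ u v hne hfin a.2)
      (finite_support_locRes_adele F φ hφ u v hne hfin b.2)]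
    refine finsum_congr fun P => ?_
    rw [Submodule.coe_add, Pi.add_apply, add_mul, locRes_add_left]
  map_smul' c a := by
    rw [RingHom.id_apply, smul_eq_mul, mul_finsum]
    refine finsum_congr fun P => ?_
    rw [Submodule.coe_smul, Pi.smul_apply, smul_mul_assoc, locRes_smul_left]

theorem weilOf_apply (hφ : ∀ P, IsExpansionAt P.1 (φ P)) (u v : K)
    (hne : ∀ P, vDiff (φ P) u v ≠ 0)
    (hfin : (Function.support fun P => ordDiff (φ P) u v).Finite) (a : adele k K) :
    weilOf F φ hφ u v hne hfin a = ∑ᶠ P, locRes (φ P) ((a : Place k K → K) P * u) v := rfl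

/-- The divisor of the Weil differential of `u dv` is the divisor of orders of `u dv`. -/
theorem isDivOf_weilOf (hK : IsFunctionField k K) (hφ : ∀ P, IsExpansionAt P.1 (φ P)) (u v : K)
    (hne : ∀ P, vDiff (φ P) u v ≠ 0)
    (hfin : (Function.support fun P => ordDiff (φ P) u v).Finite)
    (htr : ∀ P, ∃ b : F P, Algebra.trace k (F P) b ≠ 0)
    (C : Divisor k K) (hC : ∀ P, C P = ordDiff (φ P) u v) :
    IsDivOf (weilOf F φ hφ u v hne hfin) C := by
  classical
  intro E
  constructor
  · intro hω P
    by_contra hlt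
    rw [not_le] at hlt
    obtain ⟨x, hx1, hx2⟩ := exists_locRes_ne_zero (hφ P) (htr P)
      (vDiff_eq_exp_neg_ordDiff (hne P))
    rw [← hC P] at hx1
    set a : Place k K → K := Pi.single P x with ha
    have hamem : a ∈ adele k K := single_mem_adele P x
    have haE : a ∈ AD E := by
      intro Q
      by_cases hQ : Q = P
      · subst hQ
        rw [ha, Pi.single_eq_same]
        exact hx1.trans (exp_le_exp.mpr (by omega))
      · rw [ha, Pi.single_eq_of_ne hQ, map_zero]
        exact zero_le'
    have h0 := mem_WD_iff.mp hω a hamem (Submodule.mem_sup_left haE)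
    rw [weilOf_apply, finsum_eq_single _ P] at h0
    · apply hx2
      rw [← h0]
      show locRes (φ P) (x * u) v = locRes (φ P) (a P * u) v
      rw [ha, Pi.single_eq_same]
    · intro Q hQ
      show locRes (φ Q) (a Q * u) v = 0
      rw [ha, Pi.single_eq_of_ne hQ, zero_mul, locRes_zero_left]
  · intro hEC
    rw [mem_WD_iff]
    intro b hb hb'
    obtain ⟨b₁, hb₁, _, ⟨z, rfl⟩, rfl⟩ := Submodule.mem_sup.mp hb'
    have h1 : b₁ ∈ adele k K := AD_le_adele E hb₁
    have h2 : diag k K z ∈ adele k K := range_diag_le_adele hK ⟨z, rfl⟩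
    have e : (⟨b₁ + diag k K z, hb⟩ : adele k K) = ⟨b₁, h1⟩ + ⟨diag k K z, h2⟩ := rfl
    rw [e, map_add, weilOf_apply, weilOf_apply]
    have t1 : ∑ᶠ P, locRes (φ P) (b₁ P * u) v = 0 := by
      refine finsum_eq_zero_of_forall_eq_zero fun P => ?_
      refine locRes_eq_zero_of_vDiff_le_one ?_
      rw [vDiff_mul_left (hφ P), vDiff_eq_exp_neg_ordDiff (hne P), ← hC P]
      calc P.1 (b₁ P) * exp (-C P) ≤ exp (E P) * exp (-C P) := mul_le_mul' (hb₁ P) le_rfl
        _ = exp (E P - C P) := by rw [← exp_add]; congr 1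
        _ ≤ 1 := by
          rw [← exp_zero, exp_le_exp]
          have := hEC P
          omega
    have t2 : ∑ᶠ P, locRes (φ P) (diag k K z P * u) v = 0 :=
      (sum_locRes_eq_zero F φ hK hφ (z * u) v).2
    exact (congrArg₂ (· + ·) t1 t2).trans (add_zero 0)

/-- The divisor of orders of a nonzero differential is canonical. -/
theorem isCanonical_of_ordDiff (hK : IsFunctionField k K) (hφ : ∀ P, IsExpansionAt P.1 (φ P))
    (u v : K) (hne : ∀ P, vDiff (φ P) u v ≠ 0)
    (hfin : (Function.support fun P => ordDiff (φ P) u v).Finite)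
    (htr : ∀ P, ∃ b : F P, Algebra.trace k (F P) b ≠ 0)
    (C : Divisor k K) (hC : ∀ P, C P = ordDiff (φ P) u v) : IsCanonical k K C :=
  ⟨weilOf F φ hφ u v hne hfin, isDivOf_ne_zero hK (isDivOf_weilOf F φ hK hφ u v hne hfin htr C hC),
    isDivOf_weilOf F φ hK hφ u v hne hfin htr C hC⟩

end Groth.Agent.Lib.Helper18.Tate
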