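import Groth.Agent.Lib.Helper18.Tate.WeilDiff
import Groth.Agent.Lib.Helper18.FF.Weil3
import Groth.Agent.Lib.Helper24.FFExt.ExpSep

/-! # The Weil differential of `u dv` over a general constant field: finiteness of the divisor -/

set_option autoImplicit false
set_option linter.style.haveILetI false

namespace Groth.Agent.Lib.Helper18.Tate

open LinearMap HahnSeries LaurentSeries WithZero FunFld LocRes Groth.Agent.Lib.Helper18.FF

universe u v w

variable {k : Type u} [Field k] {K : Type v} [Field K] [Algebra k K]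

section Local

variable {F : Type w} [Field F] [Algebra k F] [FiniteDimensional k F]

/-- The expansion of a function with nonzero differential has nonzero derivative. -/
theorem D_exp_ne_zero (hK : IsFunctionField k K) (hg : IsGeometric k K) (P : Place k K)
    (φ : K →ₐ[k] LaurentSeries F) (hφ : IsExpansionAt P.1 φ) {x : K}
    (hx : KaehlerDifferential.D k K x ≠ 0) : LocRes.D F (φ x) ≠ 0 := by
  obtain ⟨t, ht⟩ := exists_uniformizer P
  have hDt1 := Groth.Agent.Lib.Helper24.FFExt.val_D_uniformizer φ hφ ht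
  have hdim := Groth.Agent.Lib.Helper24.FFExt.finrank_kaehler hK hg
  intro h0
  obtain ⟨g, hg'⟩ := (finrank_eq_one_iff_of_nonzero' _ hx).mp hdim (KaehlerDifferential.D k K t)
  have := Groth.Agent.Lib.Helper24.FFExt.D_exp_eq_of_D_eq_smul φ hg'.symm
  rw [h0, mul_zero] at this
  rw [this, map_zero] at hDt1
  exact zero_ne_one hDt1

theorem vDiff_ne_zero_of_D_ne_zero (hK : IsFunctionField k K) (hg : IsGeometric k K) (P : Place k K)
    (φ : K →ₐ[k] LaurentSeries F) (hφ : IsExpansionAt P.1 φ) {u x : K} (hu : u ≠ 0)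
    (hx : KaehlerDifferential.D k K x ≠ 0) : vDiff φ u x ≠ 0 := by
  unfold vDiff
  rw [Valuation.ne_zero_iff]
  exact mul_ne_zero ((map_ne_zero φ).mpr hu) (D_exp_ne_zero hK hg P φ hφ hx)

end Local

variable (F : Place k K → Type w) [∀ P, Field (F P)] [∀ P, Algebra k (F P)]
  [∀ P, FiniteDimensional k (F P)]
  (φ : ∀ P, K →ₐ[k] LaurentSeries (F P))

theorem finite_support_locRes_adele' (hK : IsFunctionField k K)
    (hφ : ∀ P, IsExpansionAt P.1 (φ P)) (u v : K)
    {a : Place k K → K} (ha : a ∈ adele k K) :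
    (Function.support fun P => locRes (φ P) (a P * u) v).Finite := by
  rw [mem_adele] at ha
  refine ((ha.union (finite_poles' hK u)).union (finite_poles' hK v)).subset ?_
  intro P hP
  by_contra hnot
  rw [Set.mem_union, Set.mem_union, not_or, not_or] at hnot
  obtain ⟨⟨h1, h2⟩, h3⟩ := hnot
  simp only [Set.mem_setOf_eq, not_not] at h1 h2 h3
  apply hP
  refine locRes_eq_zero_of_le_one (hφ P) ?_ h3
  rw [map_mul]
  exact mul_le_one' h1 h2

/-- The linear form `a ↦ ∑_P Res_P(a_P u dv)` on the adele space. -/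
noncomputable def weilOf' (hK : IsFunctionField k K) (hφ : ∀ P, IsExpansionAt P.1 (φ P))
    (u v : K) : Module.Dual k (adele k K) where
  toFun a := ∑ᶠ P, locRes (φ P) ((a : Place k K → K) P * u) v
  map_add' a b := by
    rw [← finsum_add_distrib (finite_support_locRes_adele' F φ hK hφ u v a.2)
      (finite_support_locRes_adele' F φ hK hφ u v b.2)]
    refine finsum_congr fun P => ?_
    rw [Submodule.coe_add, Pi.add_apply, add_mul, locRes_add_left]
  map_smul' c a := by
    rw [RingHom.id_apply, smul_eq_mul, mul_finsum]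
    refine finsum_congr fun P => ?_
    rw [Submodule.coe_smul, Pi.smul_apply, smul_mul_assoc, locRes_smul_left]

theorem weilOf'_apply (hK : IsFunctionField k K) (hφ : ∀ P, IsExpansionAt P.1 (φ P))
    (u v : K) (a : adele k K) :
    weilOf' F φ hK hφ u v a = ∑ᶠ P, locRes (φ P) ((a : Place k K → K) P * u) v := rfl

theorem weilOf'_single (hK : IsFunctionField k K) (hφ : ∀ P, IsExpansionAt P.1 (φ P))
    (u v : K) (P : Place k K) (x : K) [DecidableEq (Place k K)] :
    weilOf' F φ hK hφ u v ⟨Pi.single P x, single_mem_adele P x⟩ = locRes (φ P) (x * u) v := by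
  rw [weilOf'_apply, finsum_eq_single _ P]
  · show locRes (φ P) ((Pi.single P x : Place k K → K) P * u) v = _
    rw [Pi.single_eq_same]
  · intro Q hQ
    show locRes (φ Q) ((Pi.single P x : Place k K → K) Q * u) v = 0
    rw [Pi.single_eq_of_ne hQ, zero_mul, locRes_zero_left]

/-- The form vanishes on `A(E) + K` as soon as `E` is below the orders of `u dv`. -/
theorem weilOf'_mem_WD (hK : IsFunctionField k K) (hφ : ∀ P, IsExpansionAt P.1 (φ P))
    (u v : K) (hne : ∀ P, vDiff (φ P) u v ≠ 0) (E : Divisor k K)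
    (hE : ∀ P, E P ≤ ordDiff (φ P) u v) : weilOf' F φ hK hφ u v ∈ WD E := by
  rw [mem_WD_iff]
  intro b hb hb'
  obtain ⟨b₁, hb₁, _, ⟨z, rfl⟩, rfl⟩ := Submodule.mem_sup.mp hb'
  have h1 : b₁ ∈ adele k K := AD_le_adele E hb₁
  have h2 : diag k K z ∈ adele k K := range_diag_le_adele hK ⟨z, rfl⟩
  have e : (⟨b₁ + diag k K z, hb⟩ : adele k K) = ⟨b₁, h1⟩ + ⟨diag k K z, h2⟩ := rfl
  rw [e, map_add, weilOf'_apply, weilOf'_apply]
  have t1 : ∑ᶠ P, locRes (φ P) (b₁ P * u) v = 0 := by
    refine finsum_eq_zero_of_forall_eq_zero fun P => ?_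
    refine locRes_eq_zero_of_vDiff_le_one ?_
    rw [vDiff_mul_left (hφ P), vDiff_eq_exp_neg_ordDiff (hne P)]
    calc P.1 (b₁ P) * exp (-ordDiff (φ P) u v) ≤ exp (E P) * exp (-ordDiff (φ P) u v) :=
          mul_le_mul' (hb₁ P) le_rfl
      _ = exp (E P - ordDiff (φ P) u v) := by rw [← exp_add]; congr 1
      _ ≤ 1 := by
        rw [← exp_zero, exp_le_exp]
        have := hE P
        omega
  have t2 : ∑ᶠ P, locRes (φ P) (diag k K z P * u) v = 0 :=
    (sum_locRes_eq_zero F φ hK hφ (z * u) v).2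
  exact (congrArg₂ (· + ·) t1 t2).trans (add_zero 0)

/-- The orders of `u dv` are nonnegative where `u` and `v` are integral. -/
theorem ordDiff_nonneg_of_le_one {F : Type w} [Field F] [Algebra k F] {P : Place k K}
    {φ : K →ₐ[k] LaurentSeries F} (hφ : IsExpansionAt P.1 φ) {u v : K}
    (hne : vDiff φ u v ≠ 0) (hu : P.1 u ≤ 1) (hv : P.1 v ≤ 1) : 0 ≤ ordDiff φ u v := by
  have h1 : vDiff φ u v ≤ 1 := by
    unfold vDiff
    rw [map_mul, hφ.1]
    exact mul_le_one' hu (Groth.Agent.Lib.Helper24.FFExt.val_D_le_one_of_le_one φ hφ hv)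
  rw [vDiff_eq_exp_neg_ordDiff hne, ← exp_zero, exp_le_exp] at h1
  omega

theorem exists_lower (hK : IsFunctionField k K) (hφ : ∀ P, IsExpansionAt P.1 (φ P))
    (u v : K) (hne : ∀ P, vDiff (φ P) u v ≠ 0) :
    ∃ E : Divisor k K, ∀ P, E P ≤ ordDiff (φ P) u v := by
  classical
  have hfin : (Function.support fun P : Place k K => min 0 (ordDiff (φ P) u v)).Finite := by
    refine ((finite_poles' hK u).union (finite_poles' hK v)).subset ?_
    intro P hP
    by_contra hnot
    rw [Set.mem_union, not_or] at hnot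
    obtain ⟨h2, h3⟩ := hnot
    simp only [Set.mem_setOf_eq, not_not] at h2 h3
    apply hP
    show min 0 (ordDiff (φ P) u v) = 0
    exact min_eq_left (ordDiff_nonneg_of_le_one (hφ P) (hne P) h2 h3)
  refine ⟨Finsupp.ofSupportFinite _ hfin, fun P => ?_⟩
  show min 0 (ordDiff (φ P) u v) ≤ _
  exact min_le_right _ _

theorem isWeil_weilOf' (hK : IsFunctionField k K) (hφ : ∀ P, IsExpansionAt P.1 (φ P))
    (u v : K) (hne : ∀ P, vDiff (φ P) u v ≠ 0) : IsWeil (weilOf' F φ hK hφ u v) := by
  obtain ⟨E, hE⟩ := exists_lower F φ hK hφ u v hne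
  exact ⟨E, weilOf'_mem_WD F φ hK hφ u v hne E hE⟩

theorem weilOf'_ne_zero (hK : IsFunctionField k K) (hφ : ∀ P, IsExpansionAt P.1 (φ P))
    (u v : K) (hne : ∀ P, vDiff (φ P) u v ≠ 0)
    (htr : ∀ P, ∃ b : F P, Algebra.trace k (F P) b ≠ 0) : weilOf' F φ hK hφ u v ≠ 0 := by
  classical
  obtain ⟨P⟩ := exists_place hK
  obtain ⟨x, -, hx2⟩ := exists_locRes_ne_zero (hφ P) (htr P) (vDiff_eq_exp_neg_ordDiff (hne P))
  intro h0
  apply hx2
  rw [← weilOf'_single F φ hK hφ u v P x, h0]
  rfl

/-- The divisor of the form is the divisor of orders. -/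
theorem eq_ordDiff_of_isDivOf (hK : IsFunctionField k K) (hφ : ∀ P, IsExpansionAt P.1 (φ P))
    (u v : K) (hne : ∀ P, vDiff (φ P) u v ≠ 0)
    (htr : ∀ P, ∃ b : F P, Algebra.trace k (F P) b ≠ 0) {C₀ : Divisor k K}
    (hC₀ : IsDivOf (weilOf' F φ hK hφ u v) C₀) (P : Place k K) :
    C₀ P = ordDiff (φ P) u v := by
  classical
  have hmem : weilOf' F φ hK hφ u v ∈ WD C₀ := (hC₀ C₀).mpr le_rfl
  apply le_antisymm
  · by_contra hlt
    rw [not_le] at hlt
    obtain ⟨x, hx1, hx2⟩ := exists_locRes_ne_zero (hφ P) (htr P)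
      (vDiff_eq_exp_neg_ordDiff (hne P))
    have haE : (Pi.single P x : Place k K → K) ∈ AD C₀ := by
      intro Q
      by_cases hQ : Q = P
      · subst hQ
        rw [Pi.single_eq_same]
        exact hx1.trans (exp_le_exp.mpr (by omega))
      · rw [Pi.single_eq_of_ne hQ, map_zero]
        exact zero_le'
    have h0 := mem_WD_iff.mp hmem _ (single_mem_adele P x) (Submodule.mem_sup_left haE)
    rw [weilOf'_single] at h0
    exact hx2 h0
  · -- raise the coefficient at `P`
    obtain ⟨E', hE'⟩ : ∃ E' : Divisor k K, E' = C₀ + Finsupp.single P (ordDiff (φ P) u v - C₀ P) :=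
      ⟨_, rfl⟩
    have hE'P : E' P = ordDiff (φ P) u v := by
      rw [hE', Finsupp.add_apply, Finsupp.single_eq_same]
      ring
    have hE'Q : ∀ Q, Q ≠ P → E' Q = C₀ Q := by
      intro Q hQ
      rw [hE', Finsupp.add_apply, Finsupp.single_eq_of_ne hQ, add_zero]
    have hmem' : weilOf' F φ hK hφ u v ∈ WD E' := by
      rw [mem_WD_iff]
      intro b hb hb'
      obtain ⟨b₁, hb₁, _, ⟨z, rfl⟩, rfl⟩ := Submodule.mem_sup.mp hb'
      -- split `b₁` into its component at `P` and the rest
      set c : Place k K → K := Pi.single P (b₁ P) with hc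
      set d : Place k K → K := b₁ - c with hd
      have hdP : d P = 0 := by rw [hd, Pi.sub_apply, hc, Pi.single_eq_same, sub_self]
      have hdQ : ∀ Q, Q ≠ P → d Q = b₁ Q := by
        intro Q hQ
        rw [hd, Pi.sub_apply, hc, Pi.single_eq_of_ne hQ, sub_zero]
      have hdAD : d ∈ AD C₀ := by
        intro Q
        by_cases hQ : Q = P
        · subst hQ
          rw [hdP, map_zero]
          exact zero_le'
        · rw [hdQ Q hQ, ← hE'Q Q hQ]
          exact hb₁ Q
      have hcad : c ∈ adele k K := single_mem_adele P (b₁ P)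
      have hdad : d ∈ adele k K := AD_le_adele C₀ hdAD
      have hzad : diag k K z ∈ adele k K := range_diag_le_adele hK ⟨z, rfl⟩
      have hdz : d + diag k K z ∈ adele k K := Submodule.add_mem _ hdad hzad
      have e : (⟨b₁ + diag k K z, hb⟩ : adele k K) = ⟨c, hcad⟩ + ⟨d + diag k K z, hdz⟩ := by
        apply Subtype.ext
        show b₁ + diag k K z = c + (d + diag k K z)
        rw [hd]
        abel
      rw [e, map_add]
      have t1 : weilOf' F φ hK hφ u v ⟨c, hcad⟩ = 0 := by
        rw [weilOf'_single]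
        refine locRes_eq_zero_of_vDiff_le_one ?_
        rw [vDiff_mul_left (hφ P), vDiff_eq_exp_neg_ordDiff (hne P)]
        have := hb₁ P
        rw [hE'P] at this
        calc P.1 (b₁ P) * exp (-ordDiff (φ P) u v)
            ≤ exp (ordDiff (φ P) u v) * exp (-ordDiff (φ P) u v) := mul_le_mul' this le_rfl
          _ = 1 := by rw [← exp_add, add_neg_cancel, exp_zero]
      have t2 : weilOf' F φ hK hφ u v ⟨d + diag k K z, hdz⟩ = 0 :=
        mem_WD_iff.mp hmem _ hdz (Submodule.add_mem _ (Submodule.mem_sup_left hdAD)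
          (Submodule.mem_sup_right ⟨z, rfl⟩))
      rw [t1, t2, add_zero]
    have hle := (hC₀ E').mp hmem' P
    rw [hE'P] at hle
    exact hle

/-- The orders of a nonzero differential vanish at almost all places. -/
theorem finite_support_ordDiff' (hK : IsFunctionField k K) (hφ : ∀ P, IsExpansionAt P.1 (φ P))
    (u v : K) (hne : ∀ P, vDiff (φ P) u v ≠ 0)
    (htr : ∀ P, ∃ b : F P, Algebra.trace k (F P) b ≠ 0) :
    (Function.support fun P => ordDiff (φ P) u v).Finite := by
  obtain ⟨C₀, hC₀⟩ := exists_isDivOf hK (isWeil_weilOf' F φ hK hφ u v hne)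
    (weilOf'_ne_zero F φ hK hφ u v hne htr)
  refine C₀.support.finite_toSet.subset ?_
  intro P hP
  rw [Finset.mem_coe, Finsupp.mem_support_iff, eq_ordDiff_of_isDivOf F φ hK hφ u v hne htr hC₀ P]
  exact hP

end Groth.Agent.Lib.Helper18.Tate
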