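import Groth.Agent.Lib.Helper18.Tate.WeilDiff2
import Groth.Agent.Lib.Helper18.FF.RiemannRoch

/-! # Differentials `u dv` and Weil differentials: consequences -/

set_option autoImplicit false
set_option linter.style.haveILetI false

namespace Groth.Agent.Lib.Helper18.Tate

open LinearMap HahnSeries LaurentSeries WithZero FunFld LocRes Groth.Agent.Lib.Helper18.FF

universe u v w

variable {k : Type u} [Field k] {K : Type v} [Field K] [Algebra k K]

variable (F : Place k K → Type w) [∀ P, Field (F P)] [∀ P, Algebra k (F P)]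
  [∀ P, FiniteDimensional k (F P)]
  (φ : ∀ P, K →ₐ[k] LaurentSeries (F P))

theorem exists_trace_ne_zero (hK : IsFunctionField k K) (hg : IsGeometric k K)
    (hφ : ∀ P, IsExpansionAt P.1 (φ P)) (P : Place k K) :
    ∃ b : F P, Algebra.trace k (F P) b ≠ 0 := by
  haveI : Algebra.IsSeparable k (F P) :=
    Groth.Agent.Lib.Helper24.FFExt.isSeparable_of_isExpansionAt hK hg P (φ P) (hφ P)
  obtain ⟨b, hb⟩ := Algebra.trace_surjective k (F P) 1
  exact ⟨b, by rw [hb]; exact one_ne_zero⟩

theorem smulW_weilOf' (hK : IsFunctionField k K) (hφ : ∀ P, IsExpansionAt P.1 (φ P))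
    (x u v : K) : smulW hK x (weilOf' F φ hK hφ u v) = weilOf' F φ hK hφ (x * u) v := by
  refine LinearMap.ext fun a => ?_
  rw [smulW_apply, weilOf'_apply, weilOf'_apply]
  refine finsum_congr fun P => ?_
  show locRes (φ P) ((x • (a : Place k K → K)) P * u) v = _
  rw [Pi.smul_apply, smul_eq_mul]
  congr 1
  ring

/-- The divisor of `dv`, with its defining property, is canonical. -/
theorem exists_canonical_ordDiff (hK : IsFunctionField k K) (hg : IsGeometric k K)
    (hφ : ∀ P, IsExpansionAt P.1 (φ P)) {v : K} (hv : KaehlerDifferential.D k K v ≠ 0) :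
    ∃ C : Divisor k K, (∀ P, C P = ordDiff (φ P) 1 v) ∧
      IsDivOf (weilOf' F φ hK hφ 1 v) C := by
  classical
  have hne : ∀ P, vDiff (φ P) 1 v ≠ 0 := fun P =>
    vDiff_ne_zero_of_D_ne_zero hK hg P (φ P) (hφ P) one_ne_zero hv
  have htr := exists_trace_ne_zero F φ hK hg hφ
  have hfin := finite_support_ordDiff' F φ hK hφ 1 v hne htr
  refine ⟨Finsupp.ofSupportFinite _ hfin, fun P => rfl, ?_⟩
  have e : weilOf' F φ hK hφ 1 v = weilOf F φ hφ 1 v hne hfin := rfl
  rw [e]
  exact isDivOf_weilOf F φ hK hφ 1 v hne hfin htr _ fun P => rfl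

theorem vDiff_eq_mul (hK : IsFunctionField k K) (hg : IsGeometric k K)
    (hφ : ∀ P, IsExpansionAt P.1 (φ P)) {v : K} (hv : KaehlerDifferential.D k K v ≠ 0)
    {C : Divisor k K} (hC : ∀ P, C P = ordDiff (φ P) 1 v) (y : K) (P : Place k K) :
    vDiff (φ P) y v = P.1 y * exp (-C P) := by
  have hne : vDiff (φ P) 1 v ≠ 0 :=
    vDiff_ne_zero_of_D_ne_zero hK hg P (φ P) (hφ P) one_ne_zero hv
  have e : y = y * 1 := (mul_one y).symm
  conv_lhs => rw [e]
  rw [vDiff_mul_left (hφ P), vDiff_eq_exp_neg_ordDiff hne, ← hC P]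

theorem vDiff_le_iff_mem_L (hK : IsFunctionField k K) (hg : IsGeometric k K)
    (hφ : ∀ P, IsExpansionAt P.1 (φ P)) {v : K} (hv : KaehlerDifferential.D k K v ≠ 0)
    {C : Divisor k K} (hC : ∀ P, C P = ordDiff (φ P) 1 v) (D : Divisor k K) (y : K) :
    (∀ P, vDiff (φ P) y v ≤ exp (-(D P))) ↔ y ∈ L (C - D) := by
  constructor
  · intro h P
    have h1 := h P
    rw [vDiff_eq_mul F φ hK hg hφ hv hC] at h1
    rw [Finsupp.sub_apply]
    calc P.1 y = P.1 y * exp (-C P) * exp (C P) := by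
          rw [mul_assoc, ← exp_add, neg_add_cancel, exp_zero, mul_one]
      _ ≤ exp (-(D P)) * exp (C P) := mul_le_mul' h1 le_rfl
      _ = exp (C P - D P) := by rw [← exp_add]; congr 1; ring
  · intro h P
    have h1 := h P
    rw [Finsupp.sub_apply] at h1
    rw [vDiff_eq_mul F φ hK hg hφ hv hC]
    calc P.1 y * exp (-C P) ≤ exp (C P - D P) * exp (-C P) := mul_le_mul' h1 le_rfl
      _ = exp (-(D P)) := by rw [← exp_add]; congr 1; ring

end Groth.Agent.Lib.Helper18.Tate
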